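import Cfsg.Agent.Mrg.Omega.Lie.End.KSideMain
import Cfsg.Agent.Nodes.CommonNorm
import Cfsg.Agent.Nodes.LeviStd
import Cfsg.Agent.Blocks.SimpleTrace
import Cfsg.Agent.H135.TorusTab
import Cfsg.Agent.Nodes.RGDChev
import Cfsg.Agent.Nodes.RGDFoldSL
import Cfsg.Agent.FastGrp
import Cfsg.Agent.Prune
set_option linter.all false

section
prune_inst 0x7ffdedfb3bb8a9dfdfff7fffa6b4cdfdf9b81fffe4fefdcb7fe0e1ff2b9f6b00cfe1fb9d83f012fc1ff6c21414a87b03fdffcb3fe86bd87ffffd1ff45ffbee1fe5f6bd0851d48c340fbc0ffe03f0778e7f3fffffffffffffffffffffffffffbeffbfffffffff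

-- part: H945/Torus
section
prune_inst 0x12008404440020000000080a1200000680000201003080000800c00010a1000200026c00400080012028811200500000200002000000000000000000000000010001200a108a10002001e000080000000000000000000000000000000041000000000000
set_option linter.all false
open scoped Cfsg.Agent.FastGrp

-- part: H945/Weight
section
/-!
# Weights of simple modules of groups with a root group datum (Curtis–Richen), helper945

`R : RGD cs h p T n X` a root group datum in the finite group `Y = GG`, `k` a field of characteristic `p`.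

* `Wt` : `m` is an eigenvector of `U` (trivially), `T` (character `χ`) and all Hecke operators `T_i` (scalars `l i`);
* `exists_wt` : an irreducible representation over an algebraically closed field has one (`T` commutative);
* `Wt.unique` : in an irreducible representation the weight is unique;
* `Wt.exists_equiv` : two irreducible representations with the same weight are isomorphic.
-/

set_option autoImplicit false
set_option linter.unusedSectionVars false

namespace Cfsg.Agent.H945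

open CoxeterSystem Cfsg.Agent.ChevalleyStructure.CoxeterGeom Cfsg.Agent.Tits.Roots Cfsg.Agent.Tits.Core
  Cfsg.Agent.Tits.Exchange Cfsg.Agent.Nodes.Reps Cfsg.Agent.Nodes.BNOf Cfsg.Agent.Nodes.StabComb
  Cfsg.Agent.Nodes.Bruhat Cfsg.Agent.Nodes.OppDec Cfsg.Agent.Nodes.LeviDec Cfsg.Agent.KFacts.RgdOpp
open Cfsg.Agent.Omega.CR

section

variable {I W Y : Type*} [Fintype I] [DecidableEq I] [Group W] [Group Y] {M : CoxeterMatrix I}
  {cs : CoxeterSystem M W} {A : I → I → ℤ} {h : IsCartan M A} {p : ℕ} {T : Subgroup Y} {n : I → Y}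
  {X : (I → ℤ) → Subgroup Y}

/-- the family with one member -/
theorem fam (R : RGD cs h p T n X) : Fam (κ := Unit) (fun _ => cs) (fun _ => h) p T (fun _ => n) (fun _ => X)
    (fun _ => (⊤ : Subgroup Y)) where
  rgd _ := R
  X_le _ _ _ := le_top
  n_mem _ _ := Subgroup.mem_top _
  comm l m hlm := absurd (Subsingleton.elim l m) hlm

theorem Ut_unit : Ut (κ := Unit) (fun _ => cs) (fun _ => h) (fun _ => X) = RGD.Sup X (RGD.Pos cs h) := by
  unfold Ut
  exact iSup_const

theorem UNt_unit : UNt (κ := Unit) (fun _ => cs) (fun _ => h) (fun _ => X) = UN cs h X := by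
  unfold UNt
  exact iSup_const

theorem GGt_unit : GGt (κ := Unit) (fun _ => cs) (fun _ => h) T (fun _ => X) = GG cs h T X := by
  unfold GGt
  rw [iSup_const]
  exact sup_eq_right.2 T_le_GG

variable (R : RGD cs h p T n X)
variable {k V : Type*} [Field k] [AddCommGroup V] [Module k V] (ρ : Y →* Module.End k V)

/-- irreducibility -/
def Irr (ρ : Y →* Module.End k V) : Prop := Nontrivial V ∧ ∀ L : Submodule k V, (∀ g : Y, ∀ v ∈ L, ρ g v ∈ L) → L = ⊥ ∨ L = ⊤

variable [Finite Y]

/-- a weight vector -/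
structure Wt (cs : CoxeterSystem M W) (h : IsCartan M A) (n : I → Y) (X : (I → ℤ) → Subgroup Y)
    (ρ : Y →* Module.End k V) (χ : T →* kˣ) (l : I → k) (m : V) : Prop where
  ne : m ≠ 0
  fix : m ∈ fx ρ (RGD.Sup X (RGD.Pos cs h))
  tor : ∀ t : T, ρ (t : Y) m = (χ t : k) • m
  ti : ∀ i, Ti n X ρ i m = l i • m

variable {ρ}

omit [Finite Y] in
theorem Irr.ivt (hρ : Irr ρ) (hG : GG cs h T X = ⊤) (L : Submodule k V)
    (hL : Ivt ρ (GGt (κ := Unit) (fun _ => cs) (fun _ => h) T (fun _ => X)) L) : L = ⊥ ∨ L = ⊤ :=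
  hρ.2 L fun g v hv => hL g (by rw [GGt_unit, hG]; exact Subgroup.mem_top _) v hv

section wt

variable {χ : T →* kˣ} {l : I → k} {m : V}

theorem Wt.line_inv (hm : Wt cs h n X ρ χ l m) : Ivt ρ T (k ∙ m) := by
  intro t ht v hv
  obtain ⟨c, rfl⟩ := Submodule.mem_span_singleton.1 hv
  rw [map_smul, hm.tor ⟨t, ht⟩]
  exact Submodule.smul_mem _ _ (Submodule.smul_mem _ _ (Submodule.mem_span_singleton_self m))

theorem Wt.line_simp (hm : Wt cs h n X ρ χ l m) : Simp ρ T (k ∙ m) where
  ne := by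
    rw [Ne, Submodule.span_singleton_eq_bot]
    exact hm.ne
  inv := hm.line_inv
  simple := by
    intro L hL _
    by_cases h0 : L = ⊥
    · exact Or.inl h0
    · right
      obtain ⟨v, hv, hv0⟩ := (Submodule.ne_bot_iff L).1 h0
      obtain ⟨c, rfl⟩ := Submodule.mem_span_singleton.1 (hL hv)
      have hc : c ≠ 0 := by
        rintro rfl
        exact hv0 (zero_smul _ _)
      refine le_antisymm hL ?_
      rw [Submodule.span_singleton_le_iff_mem]
      have := L.smul_mem c⁻¹ hv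
      rwa [smul_smul, inv_mul_cancel₀ hc, one_smul] at this

theorem Wt.line_le (hm : Wt cs h n X ρ χ l m) : (k ∙ m) ≤ fx ρ (RGD.Sup X (RGD.Pos cs h)) := by
  rw [Submodule.span_singleton_le_iff_mem]
  exact hm.fix

theorem Wt.line_ti (hm : Wt cs h n X ρ χ l m) (i : I) : ∀ v ∈ (k ∙ m), Ti n X ρ i v ∈ (k ∙ m) := by
  intro v hv
  obtain ⟨c, rfl⟩ := Submodule.mem_span_singleton.1 hv
  rw [map_smul, hm.ti i]
  exact Submodule.smul_mem _ _ (Submodule.smul_mem _ _ (Submodule.mem_span_singleton_self m))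

/-- the line of a weight vector is good -/
theorem Wt.good (R : RGD cs h p T n X) (hm : Wt cs h n X ρ χ l m) : Fam.Good (fam R) ρ Finset.univ (k ∙ m) where
  simp := hm.line_simp
  fix := by rw [Ut_unit]; exact hm.line_le
  st _ _ i v hv := hm.line_ti i v hv

/-- **`k[U⁻] m` is invariant** -/
theorem Wt.stable [Finite W] (R : RGD cs h p T n X) (hG : GG cs h T X = ⊤) (hm : Wt cs h n X ρ χ l m) (g : Y) {v : V}
    (hv : v ∈ Sp ρ (UN cs h X) (k ∙ m)) : ρ g v ∈ Sp ρ (UN cs h X) (k ∙ m) := by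
  have h1 := (hm.good R).stable
  rw [GGt_unit, UNt_unit, hG] at h1
  exact (h1 (Subgroup.mem_top g) v).1 hv

/-- **`V = k[U⁻] m`** -/
theorem Wt.gen [Finite W] (R : RGD cs h p T n X) (hG : GG cs h T X = ⊤) (hm : Wt cs h n X ρ χ l m) (hρ : Irr ρ) :
    Sp ρ (UN cs h X) (k ∙ m) = ⊤ := by
  refine (hρ.2 _ fun g v hv => hm.stable R hG g hv).resolve_left fun h0 => hm.ne ?_
  have h1 : m ∈ Sp ρ (UN cs h X) (k ∙ m) := le_Sp ρ (Submodule.mem_span_singleton_self m)
  rw [h0] at h1
  exact h1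

variable [Fact p.Prime] [CharP k p] [FiniteDimensional k V]

/-- the `U`-fixed vectors are the line of `m` -/
theorem Wt.fx_eq [Finite W] (R : RGD cs h p T n X) (hG : GG cs h T X = ⊤) (hm : Wt cs h n X ρ χ l m) (hρ : Irr ρ) :
    fx ρ (RGD.Sup X (RGD.Pos cs h)) = k ∙ m := by
  have hnt := hρ.1
  have h1 := ((fam R).eq_fx ρ (hρ.ivt hG) (hm.good R)).1
  rw [Ut_unit] at h1
  exact h1.symm

/-- **The weight of an irreducible representation is unique.** -/
theorem Wt.unique [Finite W] (R : RGD cs h p T n X) (hG : GG cs h T X = ⊤) (hm : Wt cs h n X ρ χ l m) (hρ : Irr ρ)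
    {χ' : T →* kˣ} {l' : I → k} {m' : V} (hm' : Wt cs h n X ρ χ' l' m') : χ = χ' ∧ l = l' := by
  have h1 : m' ∈ k ∙ m := by
    rw [← hm.fx_eq R hG hρ]
    exact hm'.fix
  obtain ⟨c, hc⟩ := Submodule.mem_span_singleton.1 h1
  have hc0 : c ≠ 0 := by
    rintro rfl
    exact hm'.ne (by rw [← hc, zero_smul])
  constructor
  · ext t
    have h2 := hm'.tor t
    rw [← hc, map_smul, hm.tor, smul_comm] at h2
    have h3 := sub_eq_zero.2 h2
    rw [← sub_smul, smul_smul] at h3
    have h4 := (smul_eq_zero.1 h3).resolve_right hm.ne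
    exact sub_eq_zero.1 ((mul_eq_zero.1 h4).resolve_right hc0)
  · funext i
    have h2 := hm'.ti i
    rw [← hc, map_smul, hm.ti, smul_comm] at h2
    have h3 := sub_eq_zero.2 h2
    rw [← sub_smul, smul_smul] at h3
    have h4 := (smul_eq_zero.1 h3).resolve_right hm.ne
    exact sub_eq_zero.1 ((mul_eq_zero.1 h4).resolve_right hc0)

/-- a functional fixed by `U⁻`, nonzero on `m` -/
theorem Wt.exists_functional [Finite W] (R : RGD cs h p T n X) (hG : GG cs h T X = ⊤) (hm : Wt cs h n X ρ χ l m)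
    (hρ : Irr ρ) : ∃ φ : Module.Dual k V, (∀ u ∈ UN cs h X, ∀ v, φ (ρ u v) = φ v) ∧ φ m ≠ 0 := by
  have hnt := hρ.1
  have h1 := ((fam R).eq_fx ρ (hρ.ivt hG) (hm.good R)).2 m (by rw [Ut_unit]; exact hm.fix) hm.ne
  obtain ⟨φ, hφ, h0⟩ := h1
  rw [UNt_unit, mem_fx_dual] at hφ
  exact ⟨φ, hφ, h0⟩

end wt

/-! ### existence of weights -/

theorem exists_wt [Finite W] [Fact p.Prime] [CharP k p] [FiniteDimensional k V] [IsAlgClosed k]
    (R : RGD cs h p T n X) (hT : ∀ s ∈ T, ∀ t ∈ T, s * t = t * s) (hρ : Irr ρ) :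
    ∃ (χ : T →* kˣ) (l : I → k) (m : V), Wt cs h n X ρ χ l m := by
  classical
  have hnt := hρ.1
  obtain ⟨N, hN⟩ := (fam R).exists_good ρ
  have hNf := hN.fix
  rw [Ut_unit] at hNf
  -- `N` is a line
  have hline : ∀ v ∈ N, v ≠ 0 → ∀ t : T, ∃ c : k, ∀ w ∈ N, ρ (t : Y) w = c • w := by
    intro v hv hv0 t
    have : Nontrivial N := ⟨⟨⟨v, hv⟩, 0, fun h => hv0 (congrArg Subtype.val h)⟩⟩
    have hmaps : ∀ w ∈ N, ρ (t : Y) w ∈ N := fun w hw => hN.simp.inv t t.2 w hw
    obtain ⟨c, hc⟩ := Module.End.exists_eigenvalue ((ρ (t : Y)).restrict hmaps)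
    obtain ⟨w, hw⟩ := hc.exists_hasEigenvector
    refine ⟨c, ?_⟩
    have h1 : Ivt ρ T (N ⊓ LinearMap.ker (ρ (t : Y) - c • (LinearMap.id : V →ₗ[k] V))) := by
      rintro s hs x ⟨hx, hx'⟩
      refine ⟨hN.simp.inv s hs x hx, ?_⟩
      change (ρ (t : Y) - c • (LinearMap.id : V →ₗ[k] V)) x = 0 at hx'
      change (ρ (t : Y) - c • (LinearMap.id : V →ₗ[k] V)) (ρ s x) = 0
      rw [LinearMap.sub_apply, LinearMap.smul_apply, LinearMap.id_apply] at hx' ⊢
      rw [← rho_mul, ← hT s hs t t.2, rho_mul, ← map_smul, ← map_sub, hx', map_zero]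
    have h2 := hN.simp.simple _ inf_le_left h1
    have h3 : N ⊓ LinearMap.ker (ρ (t : Y) - c • (LinearMap.id : V →ₗ[k] V)) ≠ ⊥ := by
      intro h4
      have hw0 : (w : V) ∈ N ⊓ LinearMap.ker (ρ (t : Y) - c • (LinearMap.id : V →ₗ[k] V)) := by
        refine ⟨w.2, ?_⟩
        change (ρ (t : Y) - c • (LinearMap.id : V →ₗ[k] V)) (w : V) = 0
        rw [LinearMap.sub_apply, LinearMap.smul_apply, LinearMap.id_apply, sub_eq_zero]
        have := hw.apply_eq_smul
        exact congrArg Subtype.val this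
      rw [h4, Submodule.mem_bot] at hw0
      exact hw.2 (Subtype.ext hw0)
    have h4 := h2.resolve_left h3
    intro x hx
    rw [← h4] at hx
    have h5 : (ρ (t : Y) - c • (LinearMap.id : V →ₗ[k] V)) x = 0 := hx.2
    rw [LinearMap.sub_apply, LinearMap.smul_apply, LinearMap.id_apply, sub_eq_zero] at h5
    exact h5
  obtain ⟨m, hm, hm0⟩ := (Submodule.ne_bot_iff N).1 hN.simp.ne
  choose c hc using hline m hm hm0
  have hc1 : ∀ s t : T, c (s * t) = c s * c t := by
    intro s t
    have h1 := hc (s * t) m hm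
    rw [Subgroup.coe_mul, rho_mul, hc t m hm, map_smul, hc s m hm, smul_smul] at h1
    have h2 := sub_eq_zero.2 h1
    rw [← sub_smul] at h2
    have h3 := sub_eq_zero.1 ((smul_eq_zero.1 h2).resolve_right hm0)
    rw [← h3, mul_comm]
  have hc2 : c 1 = 1 := by
    have h1 := hc 1 m hm
    rw [Subgroup.coe_one, rho_one] at h1
    have h2 := sub_eq_zero.2 h1
    nth_rewrite 1 [← one_smul k m] at h2
    rw [← sub_smul] at h2
    exact (sub_eq_zero.1 ((smul_eq_zero.1 h2).resolve_right hm0)).symm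
  let χ0 : T →* k := { toFun := c, map_one' := hc2, map_mul' := hc1 }
  let χ : T →* kˣ := χ0.toHomUnits
  have hχ : ∀ t, (χ t : k) = c t := fun t => rfl
  have hNm : N = k ∙ m := by
    have h1 : Ivt ρ T (k ∙ m) := by
      intro t ht v hv
      obtain ⟨a, rfl⟩ := Submodule.mem_span_singleton.1 hv
      rw [map_smul, hc ⟨t, ht⟩ m hm]
      exact Submodule.smul_mem _ _ (Submodule.smul_mem _ _ (Submodule.mem_span_singleton_self m))
    refine ((hN.simp.simple _ ((Submodule.span_singleton_le_iff_mem m N).2 hm) h1).resolve_left ?_).symm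
    rw [Submodule.span_singleton_eq_bot]
    exact hm0
  have hl : ∀ i, ∃ a : k, Ti n X ρ i m = a • m := by
    intro i
    have h1 := hN.st () (Finset.mem_univ ()) i m hm
    rw [hNm] at h1
    obtain ⟨a, ha⟩ := Submodule.mem_span_singleton.1 h1
    exact ⟨a, ha.symm⟩
  choose l hl using hl
  exact ⟨χ, l, m, hm0, hNf hm, fun t => hc t m hm, hl⟩

/-! ### isomorphism -/

variable {V' : Type*} [AddCommGroup V'] [Module k V'] {ρ' : Y →* Module.End k V'}

/-- the direct sum of two representations -/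
def prodRep (ρ : Y →* Module.End k V) (ρ' : Y →* Module.End k V') : Y →* Module.End k (V × V') where
  toFun g := (ρ g).prodMap (ρ' g)
  map_one' := by
    refine LinearMap.ext fun x => Prod.ext ?_ ?_
    · change ρ 1 x.1 = x.1
      rw [rho_one]
    · change ρ' 1 x.2 = x.2
      rw [rho_one]
  map_mul' a b := by
    refine LinearMap.ext fun x => Prod.ext ?_ ?_
    · change ρ (a * b) x.1 = ρ a (ρ b x.1)
      rw [rho_mul]
    · change ρ' (a * b) x.2 = ρ' a (ρ' b x.2)
      rw [rho_mul]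

theorem prodRep_apply (g : Y) (x : V × V') : prodRep ρ ρ' g x = (ρ g x.1, ρ' g x.2) := rfl

theorem Ti_prodRep (i : I) (x : V × V') :
    Ti n X (prodRep ρ ρ') i x = (Ti n X ρ i x.1, Ti n X ρ' i x.2) := by
  classical
  let _ := Fintype.ofFinite (X (sr i))
  rw [Ti_apply, Ti_apply, Ti_apply, sg_def, sg_def, sg_def]
  refine Prod.ext ?_ ?_
  · rw [Prod.fst_sum]; rfl
  · rw [Prod.snd_sum]; rfl

/-- **Two irreducible representations with the same weight are isomorphic.** -/
theorem Wt.exists_equiv [Finite W] [Fact p.Prime] [CharP k p] [FiniteDimensional k V] [FiniteDimensional k V']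
    (R : RGD cs h p T n X) (hG : GG cs h T X = ⊤) {χ : T →* kˣ} {l : I → k} {m : V} {m' : V'}
    (hm : Wt cs h n X ρ χ l m) (hρ : Irr ρ) (hm' : Wt cs h n X ρ' χ l m') (hρ' : Irr ρ') :
    ∃ e : V ≃ₗ[k] V', ∀ g v, e (ρ g v) = ρ' g (e v) := by
  classical
  let σ := prodRep ρ ρ'
  let m0 : V × V' := (m, m')
  have hm0 : Wt cs h n X σ χ l m0 := by
    refine ⟨fun h0 => hm.ne (congrArg Prod.fst h0), ?_, ?_, ?_⟩
    · intro u hu
      exact Prod.ext (hm.fix u hu) (hm'.fix u hu)
    · intro t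
      exact Prod.ext (hm.tor t) (hm'.tor t)
    · intro i
      rw [Ti_prodRep]
      exact Prod.ext (hm.ti i) (hm'.ti i)
  let S : Submodule k (V × V') := Sp σ (UN cs h X) (k ∙ m0)
  have hS : ∀ g, ∀ x ∈ S, σ g x ∈ S := fun g x hx => hm0.stable R hG g hx
  have hm0S : m0 ∈ S := le_Sp σ (Submodule.mem_span_singleton_self m0)
  obtain ⟨φ, hφ, hφm⟩ := hm.exists_functional R hG hρ
  obtain ⟨φ', hφ', hφm'⟩ := hm'.exists_functional R hG hρ'
  -- the functional which vanishes on `S`
  have hΦ : ∀ x ∈ S, φ' m' * φ x.1 - φ m * φ' x.2 = 0 := by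
    intro x hx
    induction hx using Submodule.span_induction with
    | mem y hy =>
      obtain ⟨b, hb, v, hv, rfl⟩ := hy
      obtain ⟨c, rfl⟩ := Submodule.mem_span_singleton.1 hv
      change φ' m' * φ (ρ b (c • m)) - φ m * φ' (ρ' b (c • m')) = 0
      rw [hφ b hb, hφ' b hb, map_smul, map_smul, smul_eq_mul, smul_eq_mul]
      ring
    | zero => simp
    | add y z _ _ hy hz =>
      have e : φ' m' * φ (y + z).1 - φ m * φ' (y + z).2 =
          (φ' m' * φ y.1 - φ m * φ' y.2) + (φ' m' * φ z.1 - φ m * φ' z.2) := by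
        rw [Prod.fst_add, Prod.snd_add, map_add, map_add]; ring
      rw [e, hy, hz, add_zero]
    | smul c y _ hy =>
      have e : φ' m' * φ (c • y).1 - φ m * φ' (c • y).2 = c * (φ' m' * φ y.1 - φ m * φ' y.2) := by
        rw [Prod.smul_fst, Prod.smul_snd, map_smul, map_smul, smul_eq_mul, smul_eq_mul]; ring
      rw [e, hy, mul_zero]
  -- the intersections with the factors
  have h1 : ∀ v : V, (v, (0 : V')) ∈ S → v = 0 := by
    have h2 := hρ.2 (S.comap (LinearMap.inl k V V')) (fun g v hv => by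
      have h3 := hS g _ hv
      have h4 : σ g (v, (0 : V')) = (ρ g v, 0) := by rw [prodRep_apply, map_zero]
      change (ρ g v, (0 : V')) ∈ S
      rw [← h4]
      exact h3)
    rcases h2 with h2 | h2
    · intro v hv
      have : v ∈ S.comap (LinearMap.inl k V V') := hv
      rw [h2] at this
      exact this
    · exfalso
      have h3 : m ∈ S.comap (LinearMap.inl k V V') := by rw [h2]; trivial
      have h4 := hΦ (m, 0) h3
      change φ' m' * φ m - φ m * φ' 0 = 0 at h4
      rw [map_zero, mul_zero, sub_zero] at h4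
      rcases mul_eq_zero.1 h4 with h5 | h5
      · exact hφm' h5
      · exact hφm h5
  have h1' : ∀ v : V', ((0 : V), v) ∈ S → v = 0 := by
    have h2 := hρ'.2 (S.comap (LinearMap.inr k V V')) (fun g v hv => by
      have h3 := hS g _ hv
      have h4 : σ g ((0 : V), v) = (0, ρ' g v) := by rw [prodRep_apply, map_zero]
      change ((0 : V), ρ' g v) ∈ S
      rw [← h4]
      exact h3)
    rcases h2 with h2 | h2
    · intro v hv
      have : v ∈ S.comap (LinearMap.inr k V V') := hv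
      rw [h2] at this
      exact this
    · exfalso
      have h3 : m' ∈ S.comap (LinearMap.inr k V V') := by rw [h2]; trivial
      have h4 := hΦ (0, m') h3
      change φ' m' * φ 0 - φ m * φ' m' = 0 at h4
      rw [map_zero, mul_zero, zero_sub, neg_eq_zero] at h4
      rcases mul_eq_zero.1 h4 with h5 | h5
      · exact hφm h5
      · exact hφm' h5
  -- the projections
  let f : S →ₗ[k] V := (LinearMap.fst k V V').comp S.subtype
  let f' : S →ₗ[k] V' := (LinearMap.snd k V V').comp S.subtype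
  have hf : Function.Injective f := by
    rw [injective_iff_map_eq_zero]
    rintro ⟨⟨a, b⟩, hx⟩ (h0 : a = 0)
    subst h0
    have := h1' b hx
    subst this
    rfl
  have hf' : Function.Injective f' := by
    rw [injective_iff_map_eq_zero]
    rintro ⟨⟨a, b⟩, hx⟩ (h0 : b = 0)
    subst h0
    have := h1 a hx
    subst this
    rfl
  have hfs : Function.Surjective f := by
    rw [← LinearMap.range_eq_top]
    refine (hρ.2 (LinearMap.range f) ?_).resolve_left ?_
    · rintro g _ ⟨x, rfl⟩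
      exact ⟨⟨σ g x.1, hS g x.1 x.2⟩, rfl⟩
    · intro h0
      apply hm.ne
      have : m ∈ LinearMap.range f := ⟨⟨m0, hm0S⟩, rfl⟩
      rw [h0] at this
      exact this
  have hfs' : Function.Surjective f' := by
    rw [← LinearMap.range_eq_top]
    refine (hρ'.2 (LinearMap.range f') ?_).resolve_left ?_
    · rintro g _ ⟨x, rfl⟩
      exact ⟨⟨σ g x.1, hS g x.1 x.2⟩, rfl⟩
    · intro h0
      apply hm'.ne
      have : m' ∈ LinearMap.range f' := ⟨⟨m0, hm0S⟩, rfl⟩
      rw [h0] at this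
      exact this
  let E := LinearEquiv.ofBijective f ⟨hf, hfs⟩
  let E' := LinearEquiv.ofBijective f' ⟨hf', hfs'⟩
  refine ⟨E.symm.trans E', fun g v => ?_⟩
  obtain ⟨x, rfl⟩ := E.surjective v
  have e1 : ρ g (E x) = E ⟨σ g x.1, hS g x.1 x.2⟩ := rfl
  rw [e1, LinearEquiv.trans_apply, LinearEquiv.trans_apply, LinearEquiv.symm_apply_apply,
    LinearEquiv.symm_apply_apply]
  rfl

end

end Cfsg.Agent.H945
end

-- part: H945/Exist
section
/-!
# Existence of weights (Curtis–Richen), helper945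

The left translation representation `lft` of `Y` on the functions `Y → k`; for `χ : T →* kˣ` trivial on
`T ∩ ⟨X x : x ∈ RootsJ J⟩` the function supported on `P_J g₀ U` is a weight vector `fJ`.
-/

set_option autoImplicit false
set_option linter.unusedSectionVars false

namespace Cfsg.Agent.H945

open CoxeterSystem Cfsg.Agent.ChevalleyStructure.CoxeterGeom Cfsg.Agent.Tits.Roots Cfsg.Agent.Tits.Core
  Cfsg.Agent.Tits.Exchange Cfsg.Agent.Nodes.Reps Cfsg.Agent.Nodes.BNOf Cfsg.Agent.Nodes.StabComb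
  Cfsg.Agent.Nodes.Bruhat Cfsg.Agent.Nodes.OppDec Cfsg.Agent.Nodes.LeviDec Cfsg.Agent.KFacts.RgdOpp
open Cfsg.Agent.Omega.CR

/-- left translation -/
def lft (Y k : Type*) [Group Y] [Field k] : Y →* Module.End k (Y → k) where
  toFun g := { toFun := fun f x => f (g⁻¹ * x), map_add' := fun _ _ => rfl, map_smul' := fun _ _ => rfl }
  map_one' := by
    ext f x
    change f (1⁻¹ * x) = f x
    rw [inv_one, one_mul]
  map_mul' a b := by
    refine LinearMap.ext fun f => funext fun x => ?_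
    change f ((a * b)⁻¹ * x) = f (b⁻¹ * (a⁻¹ * x))
    rw [mul_inv_rev, mul_assoc]

theorem lft_apply {Y k : Type*} [Group Y] [Field k] (g : Y) (f : Y → k) (x : Y) : lft Y k g f x = f (g⁻¹ * x) := rfl

section

variable {I W Y : Type*} [Fintype I] [DecidableEq I] [Group W] [Group Y] {M : CoxeterMatrix I}
  {cs : CoxeterSystem M W} {A : I → I → ℤ} {h : IsCartan M A} {p : ℕ} {T : Subgroup Y} {n : I → Y}
  {X : (I → ℤ) → Subgroup Y}

/-- the Levi subgroup without torus -/
def DJ (cs : CoxeterSystem M W) (h : IsCartan M A) (X : (I → ℤ) → Subgroup Y) (J : Set I) : Subgroup Y :=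
  RGD.Sup X (RootsJ cs h J)

/-- the parabolic subgroup without torus -/
def OJ (cs : CoxeterSystem M W) (h : IsCartan M A) (X : (I → ℤ) → Subgroup Y) (J : Set I) : Subgroup Y :=
  DJ cs h X J ⊔ VJ cs h X J

variable (R : RGD cs h p T n X) {J : Set I}

theorem DJ_le_LJ : DJ cs h X J ≤ LJ cs h T X J := le_sup_right

theorem OJ_le_PJ : OJ cs h X J ≤ PJ cs h T X J :=
  sup_le (DJ_le_LJ.trans LJ_le_PJ) VJ_le_PJ

theorem U_le_OJ (J : Set I) : RGD.Sup X (RGD.Pos cs h) ≤ OJ cs h X J := by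
  refine RGD.Sup_le fun x hx => ?_
  rcases mem_PosJ_or_NotJ J hx.1 hx.2 with h1 | h1
  · exact (RGD.le_Sup (S := RootsJ cs h J) (PosJ_subset J h1)).trans le_sup_left
  · exact (RGD.le_Sup (S := NotJ cs h J) h1).trans le_sup_right

include R

theorem T_norm_OJ : T ≤ Subgroup.normalizer (OJ cs h X J : Set Y) := by
  have h1 : T ≤ Subgroup.normalizer (DJ cs h X J : Set Y) := R.T_le_normalizer fun _ hx => hx.1
  have h2 : T ≤ Subgroup.normalizer (VJ cs h X J : Set Y) := R.T_le_normalizer fun _ hx => hx.1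
  intro t ht
  rw [mem_normalizer_iff_cj]
  unfold OJ
  rw [cj_sup, mem_normalizer_iff_cj.1 (h1 ht), mem_normalizer_iff_cj.1 (h2 ht)]

theorem T_conj_OJ {t o : Y} (ht : t ∈ T) (ho : o ∈ OJ cs h X J) : t * o * t⁻¹ ∈ OJ cs h X J :=
  (Subgroup.mem_normalizer_iff.1 (T_norm_OJ R ht) o).1 ho

theorem mem_OJ {o : Y} : o ∈ OJ cs h X J ↔ ∃ d ∈ DJ cs h X J, ∃ v ∈ VJ cs h X J, o = d * v := by
  constructor
  · intro ho
    have h1 : DJ cs h X J ≤ Subgroup.normalizer (VJ cs h X J : Set Y) :=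
      (DJ_le_LJ (T := T)).trans (LJ_le_normalizer_VJ R J)
    have h2 : o ∈ ((DJ cs h X J ⊔ VJ cs h X J : Subgroup Y) : Set Y) := ho
    rw [Subgroup.coe_mul_of_left_le_normalizer_right _ _ h1] at h2
    obtain ⟨d, hd, v, hv, rfl⟩ := h2
    exact ⟨d, hd, v, hv, rfl⟩
  · rintro ⟨d, hd, v, hv, rfl⟩
    exact mul_mem (Subgroup.mem_sup_left hd) (Subgroup.mem_sup_right hv)

/-- `T ∩ OJ ≤ T ∩ DJ` -/
theorem T_inf_OJ [Finite W] {t : Y} (ht : t ∈ T) (ho : t ∈ OJ cs h X J) : t ∈ DJ cs h X J := by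
  obtain ⟨d, hd, v, hv, e⟩ := (mem_OJ R).1 ho
  have h1 : v = d⁻¹ * t := by rw [e]; group
  have h2 : v ∈ LJ cs h T X J := by
    rw [h1]
    exact mul_mem (inv_mem (DJ_le_LJ hd)) (T_le_LJ ht)
  rw [e, eq_one_of_mem_LJ_of_mem_VJ R h2 hv, mul_one]
  exact hd

/-! ### the cells of `P_J g₀ U` -/

/-- the cells over `W_J w₀` -/
def Zc (R : RGD cs h p T n X) [Finite W] (J : Set I) (x : Y) : Prop :=
  ∃ w, w * w0 cs ∈ WJ cs J ∧ Cell R.nsys cs h X w x

theorem Zc.mul_left [Finite W] {x b : Y} (hx : Zc R J x) (hb : b ∈ RGD.B cs h T X) : Zc R J (b * x) := by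
  obtain ⟨w, hw, hc⟩ := hx
  exact ⟨w, hw, hc.mul_left hb⟩

theorem Zc.mul_right [Finite W] {x b : Y} (hx : Zc R J x) (hb : b ∈ RGD.B cs h T X) : Zc R J (x * b) := by
  obtain ⟨w, hw, hc⟩ := hx
  exact ⟨w, hw, hc.mul_right hb⟩

theorem Zc.word [Finite W] (ω : List I) (hω : ∀ i ∈ ω, i ∈ J) : ∀ {g x : Y}, Rp cs R.nsys (cs.wordProd ω) g →
    Zc R J x → Zc R J (g * x) := by
  induction ω with
  | nil =>
    intro g x hg hx
    rw [wordProd_nil] at hg
    exact hx.mul_left R (RGD.T_le_B hg.mem_of_one)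
  | cons i ω ih =>
    intro g x hg hx
    rw [wordProd_cons] at hg
    have hg' : Rp cs R.nsys (cs.wordProd ω) ((n i)⁻¹ * g) := by
      have := (rp_simple cs R.nsys i).inv.mul hg
      rwa [cs.inv_simple, ← mul_assoc, cs.simple_mul_simple_self, one_mul] at this
    obtain ⟨w, hw, hc⟩ := ih (fun j hj => hω j (List.mem_cons_of_mem _ hj)) hg' hx
    have e : g * x = n i * ((n i)⁻¹ * g * x) := by group
    rw [e]
    have hi : cs.simple i ∈ WJ cs J := Subgroup.subset_closure ⟨i, hω i (List.mem_cons_self), rfl⟩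
    rcases Cell.simple_mul R (cell_of_rp (rp_simple cs R.nsys i)) hc with h1 | h1
    · refine ⟨_, ?_, h1⟩
      rw [mul_assoc]
      exact mul_mem hi hw
    · exact ⟨w, hw, h1.2⟩

theorem Zc.PJ [Finite W] {g x : Y} (hg : g ∈ PJ cs h T X J) (hx : Zc R J x) : Zc R J (g * x) := by
  obtain ⟨v, hv, b₁, hb₁, g', hg', b₂, hb₂, rfl⟩ := (mem_PJ_iff_cell R).1 hg
  obtain ⟨ω, hω, rfl⟩ := exists_word_of_mem_WJ cs hv
  rw [mul_assoc, mul_assoc]
  exact (Zc.word R ω hω hg' (hx.mul_left R hb₂)).mul_left R hb₁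

/-- elements over `w` in a cell over `W_J w₀` -/
theorem Zc.nonpos [Finite W] {g : Y} (hg : Zc R J g) {w : W} (hw : Rp cs R.nsys w g) {i : I} (hi : i ∉ J) :
    rep cs h w⁻¹ (sr i) ≤ 0 := by
  obtain ⟨v, hv, hc⟩ := hg
  have e : v = w := Cell.unique R hc (cell_of_rp hw)
  subst e
  have e1 : v⁻¹ = (w0 cs) * (v * w0 cs)⁻¹ := by group
  rw [e1, rep_mul_apply]
  have h1 : (sr i : I → ℤ) ∈ NotJ cs h J := sr_mem_NotJ hi
  have h2 := NotJ.act (inv_mem hv) h1
  exact rep_w0_nonpos h2.1 h2.2.1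

/-! ### the function -/

theorem pow_T_OJ {s o : Y} (hs : s ∈ T) (ho : o ∈ OJ cs h X J) (N : ℕ) :
    ∃ o' ∈ OJ cs h X J, (s * o) ^ N = s ^ N * o' := by
  induction N with
  | zero => exact ⟨1, one_mem _, by group⟩
  | succ N ih =>
    obtain ⟨o', ho', e⟩ := ih
    refine ⟨s⁻¹ * o' * s * o, mul_mem ?_ ho, ?_⟩
    · have := T_conj_OJ R (inv_mem hs) ho'
      rwa [inv_inv] at this
    · rw [pow_succ, e, pow_succ]; group

variable [Finite W] [Finite Y] [Fact p.Prime] {k : Type*} [Field k] [CharP k p] {χ : T →* kˣ}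

omit R [Finite Y] in
theorem units_eq_one {c : kˣ} {a : ℕ} (hc : c ^ p ^ a = 1) : c = 1 := by
  have h1 : (c : k) ^ (p ^ a * 1) = 1 := by
    rw [mul_one, ← Units.val_pow_eq_pow_val, hc, Units.val_one]
  have : ExpChar k p := ExpChar.prime (Fact.out : p.Prime)
  rw [ExpChar.pow_prime_pow_mul_eq_one_iff, pow_one] at h1
  exact Units.ext h1

theorem chi_eq (hχ : ∀ t : T, (t : Y) ∈ DJ cs h X J → χ t = 1) {g₀ : Y} {t t' : T} {o o' u u' : Y}
    (ho : o ∈ OJ cs h X J) (ho' : o' ∈ OJ cs h X J) (hu : u ∈ RGD.Sup X (RGD.Pos cs h))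
    (hu' : u' ∈ RGD.Sup X (RGD.Pos cs h)) (e : t * o * g₀ * u = t' * o' * g₀ * u') : χ t = χ t' := by
  obtain ⟨a, ha⟩ := R.isPGroup_Upos ⟨u' * u⁻¹, mul_mem hu' (inv_mem hu)⟩
  have ha' : (u' * u⁻¹) ^ p ^ a = 1 := congrArg Subtype.val ha
  set s : T := t'⁻¹ * t with hs
  set o'' : Y := ((s : Y)⁻¹ * o'⁻¹ * s) * o with ho2
  have ho'' : o'' ∈ OJ cs h X J := by
    refine mul_mem ?_ ho
    have := T_conj_OJ R (inv_mem s.2) (inv_mem ho')
    rwa [inv_inv] at this
  have e1 : (s : Y) * o'' = g₀ * (u' * u⁻¹) * g₀⁻¹ := by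
    have e2 : (s : Y) * o'' = o'⁻¹ * (t' : Y)⁻¹ * (t * o) := by
      rw [ho2, hs, Subgroup.coe_mul, Subgroup.coe_inv]; group
    have e3 : (t : Y) * o = t' * o' * g₀ * u' * u⁻¹ * g₀⁻¹ := by
      rw [← e]; group
    rw [e2, e3]; group
  have e4 : ((s : Y) * o'') ^ p ^ a = 1 := by
    rw [e1, conj_pow, ha', mul_one, mul_inv_cancel]
  obtain ⟨o₃, ho₃, e5⟩ := pow_T_OJ R s.2 ho'' (p ^ a)
  rw [e4] at e5
  have e6 : ((s ^ p ^ a : T) : Y) ∈ OJ cs h X J := by
    have : ((s ^ p ^ a : T) : Y) = o₃⁻¹ := by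
      rw [Subgroup.coe_pow]
      exact eq_inv_of_mul_eq_one_left e5.symm
    rw [this]
    exact inv_mem ho₃
  have e7 := hχ _ (T_inf_OJ R (s ^ p ^ a).2 e6)
  rw [map_pow] at e7
  have e8 := units_eq_one (p := p) e7
  rw [hs, map_mul, map_inv] at e8
  exact (inv_mul_eq_one.1 e8).symm

omit R [Finite W] [Finite Y] [Fact p.Prime] [CharP k p] in
open Classical in
/-- the function supported on `P_J g₀ U` -/
noncomputable def fJ (cs : CoxeterSystem M W) (h : IsCartan M A) (X : (I → ℤ) → Subgroup Y) (J : Set I) (g₀ : Y)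
    (χ : T →* kˣ) : Y → k := fun x =>
  if hx : ∃ t : T, ∃ o ∈ OJ cs h X J, ∃ u ∈ RGD.Sup X (RGD.Pos cs h), x = t * o * g₀ * u then
    (((χ hx.choose)⁻¹ : kˣ) : k) else 0

theorem fJ_apply (hχ : ∀ t : T, (t : Y) ∈ DJ cs h X J → χ t = 1) {g₀ : Y} {t : T} {o u : Y}
    (ho : o ∈ OJ cs h X J) (hu : u ∈ RGD.Sup X (RGD.Pos cs h)) :
    fJ cs h X J g₀ χ (t * o * g₀ * u) = (((χ t)⁻¹ : kˣ) : k) := by
  have hx : ∃ t' : T, ∃ o' ∈ OJ cs h X J, ∃ u' ∈ RGD.Sup X (RGD.Pos cs h),
      t * o * g₀ * u = t' * o' * g₀ * u' := ⟨t, o, ho, u, hu, rfl⟩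
  rw [fJ, dif_pos hx]
  obtain ⟨o', ho', u', hu', e⟩ := hx.choose_spec
  rw [chi_eq R hχ ho ho' hu hu' e]

omit R [Finite W] [Finite Y] [Fact p.Prime] [CharP k p] in
theorem fJ_zero {g₀ x : Y} (hx : ¬ ∃ t : T, ∃ o ∈ OJ cs h X J, ∃ u ∈ RGD.Sup X (RGD.Pos cs h),
    x = t * o * g₀ * u) : fJ cs h X J g₀ χ x = 0 := by
  rw [fJ, dif_neg hx]

/-- left invariance -/
theorem fJ_left (hχ : ∀ t : T, (t : Y) ∈ DJ cs h X J → χ t = 1) {g₀ x o : Y} (ho : o ∈ OJ cs h X J) :
    fJ cs h X J g₀ χ (o * x) = fJ cs h X J g₀ χ x := by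
  by_cases hx : ∃ t : T, ∃ o ∈ OJ cs h X J, ∃ u ∈ RGD.Sup X (RGD.Pos cs h), x = t * o * g₀ * u
  · obtain ⟨t, o', ho', u, hu, rfl⟩ := hx
    have h1 : (t : Y)⁻¹ * o * t ∈ OJ cs h X J := by
      have := T_conj_OJ R (inv_mem t.2) ho
      rwa [inv_inv] at this
    have e : o * (t * o' * g₀ * u) = t * (((t : Y)⁻¹ * o * t) * o') * g₀ * u := by group
    rw [e, fJ_apply R hχ (mul_mem h1 ho') hu, fJ_apply R hχ ho' hu]
  · rw [fJ_zero hx, fJ_zero]
    rintro ⟨t, o', ho', u, hu, e⟩
    apply hx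
    have h1 : (t : Y)⁻¹ * o⁻¹ * t ∈ OJ cs h X J := by
      have := T_conj_OJ R (inv_mem t.2) (inv_mem ho)
      rwa [inv_inv] at this
    refine ⟨t, _, mul_mem h1 ho', u, hu, ?_⟩
    have e1 : x = o⁻¹ * (o * x) := by group
    rw [e1, e]; group

theorem fJ_T (hχ : ∀ t : T, (t : Y) ∈ DJ cs h X J → χ t = 1) {g₀ x : Y} (s : T) :
    fJ cs h X J g₀ χ (s * x) = (((χ s)⁻¹ : kˣ) : k) * fJ cs h X J g₀ χ x := by
  by_cases hx : ∃ t : T, ∃ o ∈ OJ cs h X J, ∃ u ∈ RGD.Sup X (RGD.Pos cs h), x = t * o * g₀ * u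
  · obtain ⟨t, o', ho', u, hu, rfl⟩ := hx
    have e : (s : Y) * (t * o' * g₀ * u) = ((s * t : T) : Y) * o' * g₀ * u := by
      rw [Subgroup.coe_mul]; group
    rw [e, fJ_apply R hχ ho' hu, fJ_apply R hχ ho' hu, map_mul, mul_inv_rev, mul_comm, Units.val_mul]
  · rw [fJ_zero hx, fJ_zero, mul_zero]
    rintro ⟨t, o', ho', u, hu, e⟩
    apply hx
    refine ⟨s⁻¹ * t, o', ho', u, hu, ?_⟩
    have e1 : x = (s : Y)⁻¹ * (s * x) := by group
    rw [e1, e, Subgroup.coe_mul, Subgroup.coe_inv]; group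

omit R [Finite W] [Finite Y] [Fact p.Prime] [CharP k p] in
theorem mem_Z_mul {g₀ x v : Y} (hv : v ∈ RGD.Sup X (RGD.Pos cs h)) :
    (∃ t : T, ∃ o ∈ OJ cs h X J, ∃ u ∈ RGD.Sup X (RGD.Pos cs h), x * v = t * o * g₀ * u) ↔
      ∃ t : T, ∃ o ∈ OJ cs h X J, ∃ u ∈ RGD.Sup X (RGD.Pos cs h), x = t * o * g₀ * u := by
  constructor
  · rintro ⟨t, o, ho, u, hu, e⟩
    refine ⟨t, o, ho, u * v⁻¹, mul_mem hu (inv_mem hv), ?_⟩
    have e1 : x = (x * v) * v⁻¹ := by group
    rw [e1, e]; group
  · rintro ⟨t, o, ho, u, hu, rfl⟩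
    exact ⟨t, o, ho, u * v, mul_mem hu hv, by group⟩

theorem fJ_right (hχ : ∀ t : T, (t : Y) ∈ DJ cs h X J → χ t = 1) {g₀ x v : Y}
    (hv : v ∈ RGD.Sup X (RGD.Pos cs h)) : fJ cs h X J g₀ χ (x * v) = fJ cs h X J g₀ χ x := by
  by_cases hx : ∃ t : T, ∃ o ∈ OJ cs h X J, ∃ u ∈ RGD.Sup X (RGD.Pos cs h), x = t * o * g₀ * u
  · obtain ⟨t, o, ho, u, hu, rfl⟩ := hx
    have e : (t : Y) * o * g₀ * u * v = t * o * g₀ * (u * v) := by group
    rw [e, fJ_apply R hχ ho (mul_mem hu hv), fJ_apply R hχ ho hu]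
  · rw [fJ_zero hx, fJ_zero]
    rwa [mem_Z_mul hv]

theorem Zc_of_mem {g₀ x : Y} (hg₀ : Rp cs R.nsys (w0 cs) g₀)
    (hx : ∃ t : T, ∃ o ∈ OJ cs h X J, ∃ u ∈ RGD.Sup X (RGD.Pos cs h), x = t * o * g₀ * u) : Zc R J x := by
  obtain ⟨t, o, ho, u, hu, rfl⟩ := hx
  have h1 : Zc R J g₀ := ⟨w0 cs, by rw [w0_mul_self]; exact one_mem _, cell_of_rp hg₀⟩
  have h2 : (t : Y) * o ∈ PJ cs h T X J := mul_mem (LJ_le_PJ (T_le_LJ t.2)) (OJ_le_PJ ho)
  exact (Zc.PJ R h2 h1).mul_right R (RGD.U_le_B hu)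

/-! ### the Hecke operators on the function -/

omit R [Finite W] [Fact p.Prime] [CharP k p] in
theorem Ti_lft (i : I) [Fintype (X (sr i))] (f : Y → k) (x : Y) :
    Ti n X (lft Y k) i f x = ∑ v : X (sr i), f ((n i)⁻¹ * ((v : Y)⁻¹ * x)) := by
  rw [Ti_apply, sg_def, Finset.sum_apply]
  rfl

/-- `x = u₁ g u₂` -/
theorem exists_bruhat (hG : GG cs h T X = ⊤) (x : Y) : ∃ w, ∃ g, Rp cs R.nsys w g ∧
    ∃ u₁ ∈ RGD.Sup X (RGD.Pos cs h), ∃ u₂ ∈ RGD.Sup X (RGD.Pos cs h), x = u₁ * g * u₂ := by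
  have hx : x ∈ LJ cs h T X Set.univ := by rw [LJ_univ, hG]; exact Subgroup.mem_top x
  obtain ⟨w, -, hc⟩ := exists_cellJ R hx
  obtain ⟨b₁, hb₁, g, hg, b₂, hb₂, rfl⟩ := cellJ_univ.1 hc
  obtain ⟨t₁, ht₁, u₁, hu₁, e₁⟩ := R.mem_B.1 (inv_mem hb₁)
  obtain ⟨t₂, ht₂, u₂, hu₂, rfl⟩ := R.mem_B.1 hb₂
  refine ⟨w, t₁⁻¹ * g * t₂, ?_, u₁⁻¹, inv_mem hu₁, u₂, hu₂, ?_⟩
  · have h1 : Rp cs R.nsys 1 t₁⁻¹ := rp_of_mem (inv_mem ht₁)
    have h2 : Rp cs R.nsys 1 t₂ := rp_of_mem ht₂
    have := (h1.mul hg).mul h2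
    rwa [one_mul, mul_one] at this
  · have e2 : b₁ = u₁⁻¹ * t₁⁻¹ := by rw [← inv_inv b₁, e₁]; group
    rw [e2]; group

theorem fJ_Ti_of_mem (hχ : ∀ t : T, (t : Y) ∈ DJ cs h X J → χ t = 1) {g₀ : Y} {i : I}
    (hn : n i ∈ DJ cs h X J) : Ti n X (lft Y k) i (fJ cs h X J g₀ χ) = 0 := by
  classical
  let _ := Fintype.ofFinite (X (sr i))
  funext x
  rw [Ti_lft]
  have h1 : ∀ v : X (sr i), fJ cs h X J g₀ χ ((n i)⁻¹ * ((v : Y)⁻¹ * x)) = fJ (k := k) cs h X J g₀ χ x := by
    intro v
    rw [fJ_left R hχ (Subgroup.mem_sup_left (inv_mem hn)), fJ_left R hχ]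
    exact U_le_OJ J (RGD.le_Sup (S := RGD.Pos cs h) ⟨isRoot_sr cs h i, sr_nonneg i⟩ (inv_mem v.2))
  rw [Finset.sum_congr rfl fun v _ => h1 v, Finset.sum_const, Finset.card_univ, nsmul_eq_mul,
    ← Nat.card_eq_fintype_card, (CharP.cast_eq_zero_iff k p _).2 (p_dvd R i), zero_mul]
  rfl

theorem fJ_Ti_not_mem (hG : GG cs h T X = ⊤) (hχ : ∀ t : T, (t : Y) ∈ DJ cs h X J → χ t = 1) {g₀ : Y}
    (hg₀ : Rp cs R.nsys (w0 cs) g₀) {i : I} (hi : i ∉ J) :
    ∃ c : k, Ti n X (lft Y k) i (fJ cs h X J g₀ χ) = c • fJ cs h X J g₀ χ ∧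
      ((n i ∈ X (sr i) ⊔ X (-sr i)) → (∀ t : T, (t : Y) ∈ X (sr i) ⊔ X (-sr i) → χ t = 1) → c = -1) := by
  classical
  let _ := Fintype.ofFinite (X (sr i))
  have hU : ∀ {v : Y}, v ∈ X (sr i) → v ∈ RGD.Sup X (RGD.Pos cs h) := fun hv =>
    RGD.le_Sup (S := RGD.Pos cs h) ⟨isRoot_sr cs h i, sr_nonneg i⟩ hv
  have h0 : ∀ v : X (sr i), (v : Y) ≠ 1 → ∃ t : T, ∃ y ∈ X (-sr i), ∃ b ∈ X (sr i), (v : Y) * n i = y * t * b := by
    intro v hv
    obtain ⟨y, hy, t, ht, b, hb, e⟩ := mul_n R i v.2 hv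
    exact ⟨⟨t, ht⟩, y, hy, b, hb, e⟩
  choose! t ht using h0
  let c : X (sr i) → k := fun v => if (v : Y) = 1 then 0 else (χ (t v) : k)
  have key : ∀ w g, Rp cs R.nsys w g →
      Ti n X (lft Y k) i (fJ cs h X J g₀ χ) g = (∑ v, c v) * fJ cs h X J g₀ χ g := by
    intro w g hg
    rw [Ti_lft]
    have hroot := (isRoot_sr cs h i).act (h := h) w⁻¹
    rcases hroot.pos_or_neg with hpos | hneg
    · -- the ascending case
      have h1 : fJ (k := k) cs h X J g₀ χ g = 0 := by
        apply fJ_zero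
        intro h2
        exact hroot.not_pos_neg hpos (Zc.nonpos R (Zc_of_mem R hg₀ h2) hg hi)
      have h2 : ∀ v : X (sr i), fJ cs h X J g₀ χ ((n i)⁻¹ * ((v : Y)⁻¹ * g)) =
          fJ (k := k) cs h X J g₀ χ ((n i)⁻¹ * g) := by
        intro v
        have e : (n i)⁻¹ * ((v : Y)⁻¹ * g) = (n i)⁻¹ * g * (g⁻¹ * (v : Y)⁻¹ * g) := by group
        rw [e, fJ_right R hχ]
        have := R.conj_mem' hg (isRoot_sr cs h i) (inv_mem v.2)
        exact RGD.le_Sup (S := RGD.Pos cs h) ⟨hroot, hpos⟩ this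
      rw [h1, mul_zero, Finset.sum_congr rfl fun v _ => h2 v, Finset.sum_const, Finset.card_univ, nsmul_eq_mul,
        ← Nat.card_eq_fintype_card, (CharP.cast_eq_zero_iff k p _).2 (p_dvd R i), zero_mul]
    · rw [Finset.sum_mul]
      refine Finset.sum_congr rfl fun v _ => ?_
      by_cases hv : (v : Y) = 1
      · have h1 : c v = 0 := if_pos hv
        rw [h1, zero_mul, hv, inv_one, one_mul]
        apply fJ_zero
        intro h2
        have h3 : Rp cs R.nsys (cs.simple i * w) ((n i)⁻¹ * g) := by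
          have := (rp_simple cs R.nsys i).inv.mul hg
          rwa [cs.inv_simple] at this
        have h4 := Zc.nonpos R (Zc_of_mem R hg₀ h2) h3 hi
        rw [rep_simple_mul_inv] at h4
        exact hroot.not_pos_neg (neg_nonpos.1 h4) hneg
      · have h1 : c v = (χ (t v) : k) := if_neg hv
        obtain ⟨y, hy, b, hb, e⟩ := ht v hv
        have e1 : (n i)⁻¹ * ((v : Y)⁻¹ * g) = b⁻¹ * (((t v)⁻¹ : T) * (g * (g⁻¹ * y⁻¹ * g))) := by
          have e2 : (n i)⁻¹ * ((v : Y)⁻¹ * g) = ((v : Y) * n i)⁻¹ * g := by group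
          rw [e2, e, Subgroup.coe_inv]; group
        have h5 : g⁻¹ * y⁻¹ * g ∈ RGD.Sup X (RGD.Pos cs h) := by
          have := R.conj_mem' hg (isRoot_sr cs h i).neg (inv_mem hy)
          rw [map_neg] at this
          exact RGD.le_Sup (S := RGD.Pos cs h) ⟨hroot.neg, neg_nonneg.2 hneg⟩ this
        rw [e1, fJ_left R hχ (U_le_OJ J (hU (inv_mem hb))), fJ_T R hχ, fJ_right R hχ h5, h1, map_inv, inv_inv]
  refine ⟨∑ v, c v, ?_, ?_⟩
  · funext x
    obtain ⟨w, g, hg, u₁, hu₁, u₂, hu₂, rfl⟩ := exists_bruhat R hG x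
    have hf : fJ (k := k) cs h X J g₀ χ ∈ fx (lft Y k) (RGD.Sup X (RGD.Pos cs h)) := by
      intro u hu
      funext z
      rw [lft_apply, fJ_left R hχ (U_le_OJ J (inv_mem hu))]
    have h1 := Ti_fix R (lft Y k) hf i
    have h2 : Ti n X (lft Y k) i (fJ cs h X J g₀ χ) (u₁ * g * u₂) = Ti n X (lft Y k) i (fJ cs h X J g₀ χ) (g * u₂) := by
      have h3 := congrFun (h1 u₁⁻¹ (inv_mem hu₁)) (g * u₂)
      rw [lft_apply, inv_inv, ← mul_assoc] at h3
      exact h3
    have h3 : Ti n X (lft Y k) i (fJ cs h X J g₀ χ) (g * u₂) = Ti n X (lft Y k) i (fJ cs h X J g₀ χ) g := by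
      rw [Ti_lft, Ti_lft]
      refine Finset.sum_congr rfl fun v _ => ?_
      have e : (n i)⁻¹ * ((v : Y)⁻¹ * (g * u₂)) = (n i)⁻¹ * ((v : Y)⁻¹ * g) * u₂ := by group
      rw [e, fJ_right R hχ hu₂]
    rw [h2, h3, key w g hg]
    change _ = (∑ v, c v) * fJ cs h X J g₀ χ (u₁ * g * u₂)
    rw [fJ_right R hχ hu₂, fJ_left R hχ (U_le_OJ J hu₁)]
  · intro hn hχi
    have h1 : ∀ v : X (sr i), c v = if v = 1 then 0 else 1 := by
      intro v
      by_cases hv : (v : Y) = 1
      · have : v = 1 := Subtype.ext hv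
        rw [if_pos this]
        exact if_pos hv
      · have : v ≠ 1 := fun h => hv (by rw [h]; rfl)
        rw [if_neg this]
        have h2 : c v = (χ (t v) : k) := if_neg hv
        rw [h2]
        obtain ⟨y, hy, b, hb, e⟩ := ht v hv
        rw [hχi, Units.val_one]
        have e1 : (t v : Y) = y⁻¹ * ((v : Y) * n i) * b⁻¹ := by rw [e]; group
        rw [e1]
        exact mul_mem (mul_mem (inv_mem (Subgroup.mem_sup_right hy)) (mul_mem (Subgroup.mem_sup_left v.2) hn))
          (inv_mem (Subgroup.mem_sup_left hb))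
    have h2 : ∀ v : X (sr i), c v = 1 - (if v = 1 then 1 else 0) := by
      intro v
      rw [h1]
      split_ifs <;> simp
    rw [Finset.sum_congr rfl fun v _ => h2 v, Finset.sum_sub_distrib, Finset.sum_const, Finset.card_univ,
      nsmul_eq_mul, ← Nat.card_eq_fintype_card, (CharP.cast_eq_zero_iff k p _).2 (p_dvd R i), zero_mul,
      Finset.sum_ite_eq' , if_pos (Finset.mem_univ _), zero_sub]

end

end Cfsg.Agent.H945
end

-- part: H945/Torus
section
/-!
# The torus of a Levi subgroup, helper945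

If `n i ∈ ⟨X_i, X_{-i}⟩` then `T ∩ ⟨X x : x ∈ RootsJ J⟩` is generated by the `T ∩ ⟨X_j, X_{-j}⟩`, `j ∈ J`.
-/

set_option autoImplicit false
set_option linter.unusedSectionVars false

namespace Cfsg.Agent.H945

open CoxeterSystem Cfsg.Agent.ChevalleyStructure.CoxeterGeom Cfsg.Agent.Tits.Roots Cfsg.Agent.Tits.Core
  Cfsg.Agent.Tits.Exchange Cfsg.Agent.Nodes.Reps Cfsg.Agent.Nodes.BNOf Cfsg.Agent.Nodes.StabComb
  Cfsg.Agent.Nodes.Bruhat Cfsg.Agent.Nodes.OppDec Cfsg.Agent.Nodes.LeviDec Cfsg.Agent.KFacts.RgdOpp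
  Cfsg.Agent.Nodes.FreeTorus Cfsg.Agent.Nodes.CommonNorm Cfsg.Agent.Nodes.LeviStd Cfsg.Agent.Nodes.SubComb
  Cfsg.Agent.Nodes.Sub
open Cfsg.Agent.Omega.CR
open scoped commutatorElement

section

variable {I W Y : Type*} [Fintype I] [DecidableEq I] [Group W] [Group Y] {M : CoxeterMatrix I}
  {cs : CoxeterSystem M W} {A : I → I → ℤ} {h : IsCartan M A} {p : ℕ} {T : Subgroup Y} {n : I → Y}
  {X : (I → ℤ) → Subgroup Y}

theorem T_norm_LL (R : RGD cs h p T n X) (i : I) : T ≤ Subgroup.normalizer (LL X (sr i) : Set Y) := by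
  intro t ht
  rw [mem_normalizer_iff_cj]
  unfold LL
  rw [cj_sup, R.tor _ (isRoot_sr cs h i) t ht, R.tor _ (isRoot_sr cs h i).neg t ht]

theorem conj_n_iSup (R : RGD cs h p T n X) (hn : ∀ i, n i ∈ LL X (sr i)) (j : I) :
    cj (n j) (⨆ i : I, T ⊓ LL X (sr i)) ≤ ⨆ i : I, T ⊓ LL X (sr i) := by
  rw [cj_iSup]
  refine iSup_le fun i => ?_
  intro x hx
  rw [mem_cj] at hx
  obtain ⟨hx1, hx2⟩ := hx
  set t : Y := (n j)⁻¹ * x * n j with ht
  have e : x = (n j * (t * (n j)⁻¹ * t⁻¹)) * t := by rw [ht]; group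
  have h1 : n j * (t * (n j)⁻¹ * t⁻¹) ∈ LL X (sr j) :=
    mul_mem (hn j) ((Subgroup.mem_normalizer_iff.1 (T_norm_LL R j hx1) _).1 (inv_mem (hn j)))
  have h2 : n j * (t * (n j)⁻¹ * t⁻¹) ∈ T := by
    have e2 : n j * (t * (n j)⁻¹ * t⁻¹) = (n j * t * (n j)⁻¹) * t⁻¹ := by group
    rw [e2]
    exact mul_mem (conj_n_T R j hx1) (inv_mem hx1)
  rw [e]
  exact mul_mem (le_iSup (fun i : I => T ⊓ LL X (sr i)) j ⟨h2, h1⟩)
    (le_iSup (fun i : I => T ⊓ LL X (sr i)) i ⟨hx1, hx2⟩)

theorem TT_le_T [Finite W] (R : RGD cs h p T n X) {x : I → ℤ} (hx : IsRoot cs h x) : TT cs h X x ≤ T := by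
  intro g hg
  rw [← HH_inf_GG R]
  refine ⟨hg.2, ?_⟩
  have h1 : LL X x ≤ GG cs h T X := by
    refine le_trans ?_ (le_sup_right (a := T) (b := RGD.Sup X {x | IsRoot cs h x}))
    exact sup_le (RGD.le_Sup (S := {x | IsRoot cs h x}) hx) (RGD.le_Sup (S := {x | IsRoot cs h x}) hx.neg)
  exact h1 hg.1

theorem TT_word_le [Finite W] (R : RGD cs h p T n X) (hn : ∀ i, n i ∈ LL X (sr i)) (i : I) (ω : List I) :
    TT cs h X (rep cs h (cs.wordProd ω) (sr i)) ≤ ⨆ i : I, T ⊓ LL X (sr i) := by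
  induction ω with
  | nil =>
    rw [wordProd_nil, map_one, Module.End.one_apply]
    exact le_trans (le_inf (TT_le_T R (isRoot_sr cs h i)) inf_le_left)
      (le_iSup (fun i : I => T ⊓ LL X (sr i)) i)
  | cons j ω ih =>
    rw [wordProd_cons, rep_mul_apply]
    have h1 : IsRoot cs h (rep cs h (cs.wordProd ω) (sr i)) := ⟨_, _, rfl⟩
    rw [← (acts_of_rp R (rp_simple cs R.nsys j)).cj_TT h1]
    exact (cj_mono (n j) ih).trans (conj_n_iSup R hn j)

theorem TA_le_iSup [Finite W] (R : RGD cs h p T n X) (hn : ∀ i, n i ∈ LL X (sr i)) :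
    TA cs h X ≤ ⨆ i : I, T ⊓ LL X (sr i) := by
  unfold TA
  refine iSup_le ?_
  rintro ⟨x, w, i, rfl⟩
  obtain ⟨ω, rfl⟩ := cs.wordProd_surjective w
  exact TT_word_le R hn i ω

/-- the datum with the smaller torus -/
theorem rgd_TA [Finite Y] [Finite W] (R : RGD cs h p T n X) (hn : ∀ i, n i ∈ LL X (sr i)) :
    RGD cs h p (TA cs h X) n X := by
  have hA : ∀ i, Acts cs h X (cs.simple i) (n i) := fun i => acts_of_rp R (rp_simple cs R.nsys i)
  refine rgd_of_family hn hA R.comm ?_ R.pgrp R.notp ?_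
  · intro i u hu hu1
    obtain ⟨a, ha, t, ht, b, hb, e⟩ := R.rk1 i u hu hu1
    refine ⟨a, ha, t * n i, ?_, b, hb, by rw [e]; group, ?_⟩
    · have e1 : t * n i = a⁻¹ * u * b⁻¹ := by rw [e]; group
      rw [e1]
      exact mul_mem (mul_mem (inv_mem (Subgroup.mem_sup_left ha)) (Subgroup.mem_sup_right hu))
        (inv_mem (Subgroup.mem_sup_left hb))
    · have h1 := (acts_of_rp R (rp_of_mem ht)).mul (hA i)
      rwa [one_mul] at h1
  · intro i
    exact Nat.Coprime.coprime_dvd_left (Subgroup.card_dvd_of_le (TT_le_T R (isRoot_sr cs h i))) R.tcop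

/-- the torus of the group generated by the root groups -/
theorem T_inf_Sup [Finite Y] [Finite W] (R : RGD cs h p T n X) (hn : ∀ i, n i ∈ LL X (sr i)) :
    T ⊓ RGD.Sup X {x | IsRoot cs h x} ≤ ⨆ i : I, T ⊓ LL X (sr i) := by
  refine le_trans ?_ (TA_le_iSup R hn)
  rw [← HH_inf_GG (rgd_TA R hn)]
  exact le_inf (inf_le_left.trans (T_le_HH R)) (inf_le_right.trans le_sup_right)

/-- **The torus of a Levi subgroup.** -/
theorem T_inf_DJ [Finite Y] [Finite W] (R : RGD cs h p T n X) (hn : ∀ i, n i ∈ LL X (sr i)) (J : Set I) :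
    T ⊓ DJ cs h X J ≤ ⨆ j : J, T ⊓ LL X (sr (j : I)) := by
  classical
  have : Fintype J := Fintype.ofFinite J
  let f : J ↪ I := Function.Embedding.subtype _
  have hfr : Set.range f = J := Subtype.range_coe
  let cs' := (leviMatrix f M).toCoxeterSystem
  have hfin : Finite (leviMatrix f M).Group := finite_of cs h f (fun _ _ => rfl) cs'
  have R' := rgd_levi R f cs'
  have hLL : ∀ j : J, LL (fun c => X (iota (fun j => sr (f j)) c)) (sr j) = LL X (sr (j : I)) := by
    intro j
    unfold LL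
    change X (iota (fun j => sr (f j)) (sr j)) ⊔ X (iota (fun j => sr (f j)) (-sr j)) = _
    rw [map_neg, iota_sr]
    rfl
  have hn' : ∀ j : J, n (f j) ∈ LL (fun c => X (iota (fun j => sr (f j)) c)) (sr j) := by
    intro j
    rw [hLL]
    exact hn (f j)
  have h1 := T_inf_Sup R' hn'
  refine le_trans (inf_le_inf_left T ?_) (h1.trans ?_)
  · unfold DJ
    refine RGD.Sup_le fun x hx => ?_
    rw [← hfr, mem_RootsJ_range_iff' f (fun _ _ => rfl) (fun _ _ => rfl) cs' (levi_isCartan f h)] at hx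
    obtain ⟨c, hc, rfl⟩ := hx
    exact RGD.le_Sup (X := fun c => X (iota (fun j => sr (f j)) c)) (S := {x | IsRoot cs' (levi_isCartan f h) x}) hc
  · refine iSup_mono fun j => ?_
    rw [hLL]

end

end Cfsg.Agent.H945
end

private theorem dce_be6d6e6726f9 : _root_.True := by
  try have : _root_.True := by simp only [_root_.Cfsg.Agent.H945.fJ.eq_1]
  exact _root_.True.intro
end

-- part: H945/Chev
section
prune_inst 0x2000040000020000000014000000404200000000000000008008040000800040000000300020000010000400000000014c00000240000004000000011800800000100000000000060008000000000000000000000000000000000000000000000000000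
set_option linter.all false
open scoped Cfsg.Agent.FastGrp

-- part: H945/Simple
section
/-!
# Irreducible representations with a given weight, helper945

* `exists_irr_of_wt` : a weight vector in a finite dimensional representation gives an irreducible representation with the
  same weight;
* `exists_irr` : for `J` and `χ` trivial on `T ∩ ⟨X x : x ∈ RootsJ J⟩` there is an irreducible representation of weight
  `(χ, l)`, `l i = 0` for `i ∈ J`, `l i = -1` for `i ∉ J` if `χ` is trivial on `T ∩ ⟨X_i, X_{-i}⟩`.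
-/

set_option autoImplicit false
set_option linter.unusedSectionVars false

namespace Cfsg.Agent.H945

open CoxeterSystem Cfsg.Agent.ChevalleyStructure.CoxeterGeom Cfsg.Agent.Tits.Roots Cfsg.Agent.Tits.Core
  Cfsg.Agent.Tits.Exchange Cfsg.Agent.Nodes.Reps Cfsg.Agent.Nodes.BNOf Cfsg.Agent.Nodes.StabComb
  Cfsg.Agent.Nodes.Bruhat Cfsg.Agent.Nodes.OppDec Cfsg.Agent.Nodes.LeviDec Cfsg.Agent.KFacts.RgdOpp
open Cfsg.Agent.Omega.CR

section

variable {I W Y : Type*} [Fintype I] [DecidableEq I] [Group W] [Group Y] [Finite Y] {M : CoxeterMatrix I}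
  {cs : CoxeterSystem M W} {A : I → I → ℤ} {h : IsCartan M A} {p : ℕ} {T : Subgroup Y} {n : I → Y}
  {X : (I → ℤ) → Subgroup Y}
  {k V V' : Type*} [Field k] [AddCommGroup V] [Module k V] [AddCommGroup V'] [Module k V']
  {ρ : Y →* Module.End k V} {ρ' : Y →* Module.End k V'}

theorem map_sg (f : V →ₗ[k] V') (hf : ∀ g v, f (ρ g v) = ρ' g (f v)) (B : Subgroup Y) (v : V) :
    f (sg ρ B v) = sg ρ' B (f v) := by
  classical
  let _ := Fintype.ofFinite B
  rw [sg_def, sg_def, map_sum]
  exact Finset.sum_congr rfl fun a _ => hf _ _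

theorem map_Ti (f : V →ₗ[k] V') (hf : ∀ g v, f (ρ g v) = ρ' g (f v)) (i : I) (v : V) :
    f (Ti n X ρ i v) = Ti n X ρ' i (f v) := by
  rw [Ti_apply, Ti_apply, map_sg f hf, hf]

variable {χ : T →* kˣ} {l : I → k}

/-- the image of a weight vector -/
theorem Wt.map {m : V} (hm : Wt cs h n X ρ χ l m) (f : V →ₗ[k] V') (hf : ∀ g v, f (ρ g v) = ρ' g (f v))
    (h0 : f m ≠ 0) : Wt cs h n X ρ' χ l (f m) where
  ne := h0
  fix u hu := by rw [← hf, hm.fix u hu]
  tor t := by rw [← hf, hm.tor t, map_smul]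
  ti i := by rw [← map_Ti f hf, hm.ti i, map_smul]

/-- the preimage of a weight vector -/
theorem Wt.of_map {m : V} (f : V →ₗ[k] V') (hf : ∀ g v, f (ρ g v) = ρ' g (f v)) (hinj : Function.Injective f)
    (hm : Wt cs h n X ρ' χ l (f m)) : Wt cs h n X ρ χ l m where
  ne h0 := hm.ne (by rw [h0, map_zero])
  fix u hu := hinj (by rw [hf, hm.fix u hu])
  tor t := hinj (by rw [hf, hm.tor t, map_smul])
  ti i := hinj (by rw [map_Ti f hf, hm.ti i, map_smul])

omit [Finite Y] in
/-- restriction to an invariant subspace -/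
def subRep (ρ : Y →* Module.End k V) (S : Submodule k V) (hS : ∀ g, ∀ v ∈ S, ρ g v ∈ S) : Y →* Module.End k S where
  toFun g := (ρ g).restrict (hS g)
  map_one' := LinearMap.ext fun _ => Subtype.ext (rho_one ρ _)
  map_mul' _ _ := LinearMap.ext fun _ => Subtype.ext (rho_mul ρ _ _ _)

omit [Finite Y] in
/-- the quotient representation -/
def quotRep (ρ : Y →* Module.End k V) (S : Submodule k V) (hS : ∀ g, ∀ v ∈ S, ρ g v ∈ S) :
    Y →* Module.End k (V ⧸ S) where
  toFun g := S.mapQ S (ρ g) (fun v hv => hS g v hv)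
  map_one' := by
    refine LinearMap.ext fun v => ?_
    induction v using Submodule.Quotient.induction_on with
    | H v => rw [Submodule.mapQ_apply, rho_one]; rfl
  map_mul' a b := by
    refine LinearMap.ext fun v => ?_
    induction v using Submodule.Quotient.induction_on with
    | H v => rw [Submodule.mapQ_apply, rho_mul]; rfl

/-- **A weight vector gives an irreducible representation with the same weight.** -/
theorem exists_irr_of_wt {k : Type*} {V : Type*} [Field k] [AddCommGroup V] [Module k V]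
    {ρ : Y →* Module.End k V} [FiniteDimensional k V] {χ : T →* kˣ} {l : I → k} {m : V}
    (hm : Wt cs h n X ρ χ l m) :
    ∃ (S : Submodule k V) (L : Submodule k S) (τ : Y →* Module.End k (S ⧸ L)) (m' : S ⧸ L), Irr τ ∧
      Wt cs h n X τ χ l m' := by
  classical
  let S : Submodule k V := Submodule.span k (Set.range fun g => ρ g m)
  have hS : ∀ g, ∀ v ∈ S, ρ g v ∈ S := by
    intro g v hv
    induction hv using Submodule.span_induction with
    | mem x hx =>
      obtain ⟨b, rfl⟩ := hx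
      change ρ g (ρ b m) ∈ S
      rw [← rho_mul]
      exact Submodule.subset_span ⟨_, rfl⟩
    | zero => rw [map_zero]; exact zero_mem _
    | add x y _ _ hx hy => rw [map_add]; exact add_mem hx hy
    | smul c x _ hx => rw [map_smul]; exact S.smul_mem c hx
  let σ := subRep ρ S hS
  have hσ : ∀ g (v : S), ((σ g v : S) : V) = ρ g v := fun _ _ => rfl
  have hmS : m ∈ S := Submodule.subset_span ⟨1, rho_one ρ m⟩
  let m0 : S := ⟨m, hmS⟩
  have hm0 : Wt cs h n X σ χ l m0 := Wt.of_map S.subtype (fun g v => rfl) S.injective_subtype hm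
  -- `S` is generated by `m0`
  have hgen : ∀ L : Submodule k S, (∀ g, ∀ v ∈ L, σ g v ∈ L) → m0 ∈ L → L = ⊤ := by
    intro L hL h1
    rw [eq_top_iff]
    rintro ⟨v, hv⟩ -
    have h2 : S ≤ L.map S.subtype := by
      refine Submodule.span_le.2 ?_
      rintro _ ⟨g, rfl⟩
      exact ⟨σ g m0, hL g m0 h1, rfl⟩
    obtain ⟨x, hx, e⟩ := h2 hv
    have : x = ⟨v, hv⟩ := Subtype.ext e
    rwa [this] at hx
  -- a maximal invariant subspace without `m0`
  obtain ⟨L, ⟨hL, hmL⟩, hmax⟩ := (wellFounded_gt (α := Submodule k S)).has_min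
    {L : Submodule k S | (∀ g, ∀ v ∈ L, σ g v ∈ L) ∧ m0 ∉ L}
    ⟨⊥, fun g v hv => by rw [Submodule.mem_bot] at hv ⊢; rw [hv, map_zero], fun h0 => hm0.ne h0⟩
  let τ := quotRep σ L hL
  have hτ : ∀ g (v : S), L.mkQ (σ g v) = τ g (L.mkQ v) := fun _ _ => rfl
  have hne : L.mkQ m0 ≠ 0 := by
    intro h0
    rw [Submodule.mkQ_apply, Submodule.Quotient.mk_eq_zero] at h0
    exact hmL h0
  refine ⟨S, L, τ, L.mkQ m0, ⟨nontrivial_of_ne _ _ hne, ?_⟩, hm0.map L.mkQ hτ hne⟩
  intro L' hL'
  have h1 : ∀ g, ∀ v ∈ L'.comap L.mkQ, σ g v ∈ L'.comap L.mkQ := by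
    intro g v hv
    change L.mkQ (σ g v) ∈ L'
    rw [hτ]
    exact hL' g _ hv
  have h2 : L ≤ L'.comap L.mkQ := by
    intro v hv
    change L.mkQ v ∈ L'
    rw [Submodule.mkQ_apply, (Submodule.Quotient.mk_eq_zero L).2 hv]
    exact zero_mem _
  have hsurj : Function.Surjective L.mkQ := L.mkQ_surjective
  by_cases h3 : m0 ∈ L'.comap L.mkQ
  · right
    have h4 := hgen _ h1 h3
    rw [eq_top_iff]
    intro x _
    obtain ⟨v, rfl⟩ := hsurj x
    have : v ∈ L'.comap L.mkQ := by rw [h4]; trivial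
    exact this
  · left
    have h4 : L = L'.comap L.mkQ := by
      by_contra h5
      exact hmax _ ⟨h1, h3⟩ (lt_of_le_of_ne h2 h5)
    rw [eq_bot_iff]
    intro x hx
    obtain ⟨v, rfl⟩ := hsurj x
    have : v ∈ L := by rw [h4]; exact hx
    rw [Submodule.mem_bot, Submodule.mkQ_apply, (Submodule.Quotient.mk_eq_zero L).2 this]

/-- **Existence of irreducible representations.** -/
theorem exists_irr {k : Type*} [Field k] [Finite W] [Fact p.Prime] [CharP k p] (R : RGD cs h p T n X)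
    (hG : GG cs h T X = ⊤) (hn : ∀ i, n i ∈ X (sr i) ⊔ X (-sr i)) {J : Set I} {χ : T →* kˣ}
    (hχ : ∀ t : T, (t : Y) ∈ DJ cs h X J → χ t = 1) :
    ∃ (l : I → k), (∀ i ∈ J, l i = 0) ∧
      (∀ i ∉ J, (∀ t : T, (t : Y) ∈ X (sr i) ⊔ X (-sr i) → χ t = 1) → l i = -1) ∧
      ∃ (S : Submodule k (Y → k)) (L : Submodule k S) (τ : Y →* Module.End k (S ⧸ L)) (m' : S ⧸ L), Irr τ ∧
      Wt cs h n X τ χ l m' := by
  classical
  obtain ⟨g₀, hg₀⟩ := exists_rp cs R.nsys (w0 cs)
  let f : Y → k := fJ cs h X J g₀ χ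
  have h1 : ∀ i, ∃ c : k, Ti n X (lft Y k) i f = c • f ∧ (i ∈ J → c = 0) ∧
      (i ∉ J → (∀ t : T, (t : Y) ∈ X (sr i) ⊔ X (-sr i) → χ t = 1) → c = -1) := by
    intro i
    by_cases hi : i ∈ J
    · refine ⟨0, ?_, fun _ => rfl, fun h => absurd hi h⟩
      rw [zero_smul]
      refine fJ_Ti_of_mem R hχ (?_ : n i ∈ DJ cs h X J)
      have h2 : X (sr i) ⊔ X (-sr i) ≤ DJ cs h X J :=
        sup_le (RGD.le_Sup (S := RootsJ cs h J) (PosJ_subset J (sr_mem_PosJ hi)))
          (RGD.le_Sup (S := RootsJ cs h J) (RootsJ.neg (PosJ_subset J (sr_mem_PosJ hi))))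
      exact h2 (hn i)
    · obtain ⟨c, hc, hc'⟩ := fJ_Ti_not_mem (k := k) R hG hχ hg₀ hi
      exact ⟨c, hc, fun h => absurd h hi, fun _ => hc' (hn i)⟩
  choose l hl hl0 hl1 using h1
  refine ⟨l, hl0, hl1, exists_irr_of_wt (ρ := lft Y k) (m := f) ⟨?_, ?_, ?_, hl⟩⟩
  · intro h0
    have h2 := congrFun h0 g₀
    have h3 := fJ_apply (k := k) R hχ (g₀ := g₀) (t := 1) (one_mem (OJ cs h X J))
      (one_mem (RGD.Sup X (RGD.Pos cs h)))
    have e : ((1 : T) : Y) * 1 * g₀ * 1 = g₀ := by simp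
    rw [e] at h3
    have h4 : f g₀ = (((χ 1)⁻¹ : kˣ) : k) := h3
    rw [h2] at h4
    exact Units.ne_zero _ h4.symm
  · intro u hu
    funext z
    rw [lft_apply]
    exact fJ_left R hχ (U_le_OJ J (inv_mem hu))
  · intro t
    funext z
    rw [lft_apply]
    have := fJ_T (k := k) R hχ (g₀ := g₀) (x := z) t⁻¹
    rw [map_inv, inv_inv, Subgroup.coe_inv] at this
    exact this

end

end Cfsg.Agent.H945
end

-- part: H945/Cases
section
/-!
# The eigenvalues of the Hecke operators, helper945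

`Wt.cases` : for a weight vector `m` of weight `(χ, l)` either `l i = 0`, or `l i = -1` and `χ` is trivial on
`T ∩ ⟨X_i, X_{-i}⟩`.
-/

set_option autoImplicit false
set_option linter.unusedSectionVars false

namespace Cfsg.Agent.H945

open CoxeterSystem Cfsg.Agent.ChevalleyStructure.CoxeterGeom Cfsg.Agent.Tits.Roots Cfsg.Agent.Tits.Core
  Cfsg.Agent.Tits.Exchange Cfsg.Agent.Nodes.Reps Cfsg.Agent.Nodes.BNOf Cfsg.Agent.Nodes.StabComb
  Cfsg.Agent.Nodes.Bruhat Cfsg.Agent.Nodes.OppDec Cfsg.Agent.Nodes.LeviDec Cfsg.Agent.KFacts.RgdOpp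
open Cfsg.Agent.Omega.CR

/-- vectors of a `p`-group orbit are independent if the norm element does not kill -/
theorem orbit_indep {Y k V : Type*} [Group Y] [Finite Y] [Field k] [AddCommGroup V] [Module k V]
    (ρ : Y →* Module.End k V) {p : ℕ} [Fact p.Prime] [CharP k p] {P : Subgroup Y} (hP : IsPGroup p P) {m : V}
    (h0 : sg ρ P m ≠ 0) : LinearIndependent k fun y : P => ρ (y : Y) m := by
  classical
  let _ := Fintype.ofFinite P
  let K : Submodule k (P → k) :=
    { carrier := {g | ∑ y, g y • ρ (y : Y) m = 0}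
      zero_mem' := by simp only [_root_.Set.mem_ofPred_eq, _root_.Pi.zero_apply, _root_.zero_smul, _root_.Finset.sum_const_zero]
      add_mem' := by
        intro a b (ha : ∑ y, a y • ρ (y : Y) m = 0) (hb : ∑ y, b y • ρ (y : Y) m = 0)
        change ∑ y, (a y + b y) • ρ (y : Y) m = 0
        simp only [add_smul]
        rw [Finset.sum_add_distrib, ha, hb, add_zero]
      smul_mem' := by
        intro c a (ha : ∑ y, a y • ρ (y : Y) m = 0)
        change ∑ y, (c * a y) • ρ (y : Y) m = 0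
        simp only [mul_smul]
        rw [← Finset.smul_sum, ha, smul_zero] }
  have hK : ∀ g, g ∈ K ↔ ∑ y, g y • ρ (y : Y) m = 0 := fun _ => Iff.rfl
  have hbot : K = ⊥ := by
    by_contra hne
    have hinv : ∀ a ∈ (⊤ : Subgroup P), ∀ g ∈ K, lft P k a g ∈ K := by
      intro a _ g hg
      rw [hK] at hg ⊢
      have h1 : ∑ y, lft P k a g y • ρ (y : Y) m = ∑ y, g y • ρ ((a : Y) * y) m := by
        refine (Fintype.sum_equiv (Equiv.mulLeft a) _ _ fun y => ?_).symm
        rw [lft_apply]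
        change g y • ρ ((a : Y) * y) m = g (a⁻¹ * (a * y)) • ρ ((a * y : P) : Y) m
        rw [inv_mul_cancel_left, Subgroup.coe_mul]
      rw [h1]
      have h2 : ∀ y : P, g y • ρ ((a : Y) * y) m = ρ a (g y • ρ (y : Y) m) := by
        intro y
        rw [map_smul, rho_mul]
      rw [Finset.sum_congr rfl fun y _ => h2 y, ← map_sum, hg, map_zero]
    have hP' : IsPGroup p (⊤ : Subgroup P) := hP.to_subgroup _
    obtain ⟨g, hg, hg0, hfix⟩ := exists_fixed (lft P k) hP' K hinv hne
    have hconst : ∀ y : P, g y = g 1 := by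
      intro y
      have h1 := congrFun (hfix y (Subgroup.mem_top y)) y
      rw [lft_apply, inv_mul_cancel] at h1
      exact h1.symm
    rw [hK, Finset.sum_congr rfl fun y _ => by rw [hconst y], ← Finset.smul_sum, ← sg_def] at hg
    rcases smul_eq_zero.1 hg with h1 | h1
    · exact hg0 (funext fun y => (hconst y).trans h1)
    · exact h0 h1
  rw [Fintype.linearIndependent_iff]
  intro g hg y
  have h1 : g ∈ K := hg
  rw [hbot, Submodule.mem_bot] at h1
  rw [h1]; rfl

section

variable {I W Y : Type*} [Fintype I] [DecidableEq I] [Group W] [Group Y] [Finite Y] {M : CoxeterMatrix I}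
  {cs : CoxeterSystem M W} {A : I → I → ℤ} {h : IsCartan M A} {p : ℕ} {T : Subgroup Y} {n : I → Y}
  {X : (I → ℤ) → Subgroup Y}
  {k V : Type*} [Field k] [AddCommGroup V] [Module k V] {ρ : Y →* Module.End k V}

theorem X_eq_cj (R : RGD cs h p T n X) (i : I) :
    (X (sr i)).map (MulAut.conj (n i)⁻¹).toMonoidHom = X (-sr i) := by
  have h1 := R.conj i (-sr i) (isRoot_sr cs h i).neg
  rw [map_neg, rep_simple_sr, neg_neg] at h1
  rw [← h1]
  change cj (n i)⁻¹ (cj (n i) (X (-sr i))) = _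
  rw [← cj_mul, inv_mul_cancel, cj_one]

/-- **The eigenvalues.** -/
theorem Wt.cases [Finite W] [Fact p.Prime] [CharP k p] (R : RGD cs h p T n X) {χ : T →* kˣ} {l : I → k} {m : V}
    (hm : Wt cs h n X ρ χ l m) {i : I} (hn : n i ∈ X (sr i) ⊔ X (-sr i)) :
    l i = 0 ∨ (l i = -1 ∧ ∀ t : T, (t : Y) ∈ X (sr i) ⊔ X (-sr i) → χ t = 1) := by
  classical
  by_cases hl : l i = 0
  · exact Or.inl hl
  right
  let _ := Fintype.ofFinite (X (sr i))
  let _ := Fintype.ofFinite (X (-sr i))
  have hB : X (sr i) ≤ RGD.B cs h T X := RGD.X_le_B (isRoot_sr cs h i) (sr_nonneg i)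
  -- the norm element
  have hN : sg ρ (X (-sr i)) m = l i • ρ (n i)⁻¹ m := by
    have h1 := congrArg (ρ (n i)⁻¹) (hm.ti i)
    rw [Ti_apply, rho_sg, X_eq_cj R i, rho_inv_rho, map_smul] at h1
    exact h1
  have hN0 : sg ρ (X (-sr i)) m ≠ 0 := by
    rw [hN]
    exact smul_ne_zero hl (rho_ne_zero ρ _ hm.ne)
  have hind := orbit_indep ρ (R.pgrp' (isRoot_sr cs h i).neg) hN0
  have hfixX : ∀ {x : Y}, x ∈ X (sr i) → ρ x m = m := fun hx => X_fix R ρ hm.fix i hx
  -- the vector `e = n_i⁻¹ m`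
  set e : V := ρ (n i)⁻¹ m with he
  have hsq : n i * n i ∈ T := n_sq R i
  obtain ⟨ζ, hζdef⟩ : ∃ ζ : kˣ, ζ = χ ⟨n i * n i, hsq⟩ := ⟨_, rfl⟩
  have hζ : ρ (n i)⁻¹ (ρ (n i)⁻¹ m) = ((ζ⁻¹ : kˣ) : k) • m := by
    have h1 := hm.tor ⟨n i * n i, hsq⟩⁻¹
    rw [map_inv, ← hζdef] at h1
    rw [← rho_mul, ← mul_inv_rev]
    exact h1
  have h0 : ∀ v : X (sr i), (v : Y) ≠ 1 → ∃ y : X (-sr i), ∃ t : T, ∃ b ∈ X (sr i),
      (v : Y) * n i = y * t * b := by
    intro v hv
    obtain ⟨y, hy, t, ht, b, hb, e⟩ := mul_n R i v.2 hv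
    exact ⟨⟨y, hy⟩, ⟨t, ht⟩, b, hb, e⟩
  choose! y t ht using h0
  -- `v e = c_v e_{y_v}`
  have hve : ∀ v : X (sr i), (v : Y) ≠ 1 →
      ρ (v : Y) e = ((χ (t v) * ζ⁻¹ : kˣ) : k) • ρ (y v : Y) m := by
    intro v hv
    obtain ⟨b, hb, e1⟩ := ht v hv
    have h1 : ρ (v : Y) e = ρ ((v : Y) * n i) (ρ (n i)⁻¹ (ρ (n i)⁻¹ m)) := by
      rw [he, ← rho_mul, ← rho_mul, ← rho_mul]
      congr 2
      group
    rw [h1, hζ, map_smul, e1, rho_mul, rho_mul, hfixX hb, hm.tor, map_smul, smul_smul, mul_comm, Units.val_mul]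
  -- `y` is injective
  have hyne : ∀ v : X (sr i), (v : Y) ≠ 1 → y v ≠ 1 := by
    intro v hv h1
    obtain ⟨b, hb, e1⟩ := ht v hv
    rw [h1, Subgroup.coe_one, one_mul] at e1
    have h2 : n i = ((v : Y))⁻¹ * (t v) * b := by
      rw [mul_assoc, ← e1]; group
    have h3 : n i ∈ RGD.B cs h T X := by
      rw [h2]
      exact mul_mem (mul_mem (inv_mem (hB v.2)) (RGD.T_le_B (t v).2)) (hB hb)
    have h5 := R.eq_one_of_mem_B (rp_simple cs R.nsys i) h3
    have h6 := cs.length_simple i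
    rw [h5, cs.length_one] at h6
    exact absurd h6 (by decide)
  have hyinj : ∀ v w : X (sr i), (v : Y) ≠ 1 → (w : Y) ≠ 1 → y v = y w → v = w := by
    intro v w hv hw h1
    obtain ⟨b, hb, e1⟩ := ht v hv
    obtain ⟨b', hb', e2⟩ := ht w hw
    rw [h1] at e1
    have h2 : (n i)⁻¹ * ((w : Y)⁻¹ * v) * n i ∈ RGD.B cs h T X := by
      have e3 : (n i)⁻¹ * ((w : Y)⁻¹ * v) * n i = ((w : Y) * n i)⁻¹ * (v * n i) := by group
      have e4 : ((w : Y) * n i)⁻¹ * (v * n i) = b'⁻¹ * (t w : Y)⁻¹ * (t v) * b := by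
        rw [e1, e2]; group
      rw [e3, e4]
      exact mul_mem (mul_mem (mul_mem (inv_mem (hB hb')) (inv_mem (RGD.T_le_B (t w).2))) (RGD.T_le_B (t v).2)) (hB hb)
    have hk : Rp cs R.nsys (cs.simple i) (n i)⁻¹ := by
      have := (rp_simple cs R.nsys i).inv
      rwa [cs.inv_simple] at this
    have h3 := eq_one_of_conj_mem_B R (mul_mem (inv_mem w.2) v.2) hk (by rw [inv_inv]; exact h2)
    exact (Subtype.ext (inv_mul_eq_one.1 h3)).symm
  let φ : X (sr i) → X (-sr i) := fun v => if (v : Y) = 1 then 1 else y v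
  have hφ1 : φ 1 = 1 := if_pos rfl
  have hφy : ∀ v : X (sr i), (v : Y) ≠ 1 → φ v = y v := fun v hv => if_neg hv
  have hφ : Function.Bijective φ := by
    rw [Fintype.bijective_iff_injective_and_card]
    constructor
    · intro v w hvw
      by_cases hv : (v : Y) = 1 <;> by_cases hw : (w : Y) = 1
      · exact Subtype.ext (hv.trans hw.symm)
      · have h1 : v = 1 := Subtype.ext hv
        rw [h1, hφ1, hφy w hw] at hvw
        exact absurd hvw.symm (hyne w hw)
      · have h1 : w = 1 := Subtype.ext hw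
        rw [h1, hφ1, hφy v hv] at hvw
        exact absurd hvw (hyne v hv)
      · rw [hφy v hv, hφy w hw] at hvw
        exact hyinj v w hv hw hvw
    · rw [← Nat.card_eq_fintype_card, ← Nat.card_eq_fintype_card, ← X_eq_cj R i]
      exact (Nat.card_congr ((X (sr i)).equivMapOfInjective _ (MulAut.conj (n i)⁻¹).injective).toEquiv)
  -- the sum of `v e`
  have hsum : ∑ v : X (sr i), ρ (v : Y) e = (((ζ⁻¹ : kˣ) : k) * l i) • m := by
    have h1 := hm.ti i
    rw [Ti_apply] at h1
    have h2 : ρ (n i) (ρ (n i)⁻¹ (ρ (n i)⁻¹ m)) = e := by rw [rho_rho_inv]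
    rw [hζ, map_smul] at h2
    rw [← sg_def, ← h2, map_smul, h1, smul_smul]
  let d : X (sr i) → k := fun v => if (v : Y) = 1 then - (l i * (((ζ⁻¹ : kˣ) : k) * l i)) else
    l i * ((χ (t v) * ζ⁻¹ : kˣ) : k)
  have hd1 : ∀ v : X (sr i), (v : Y) ≠ 1 → d v = l i * ((χ (t v) * ζ⁻¹ : kˣ) : k) := fun v hv => if_neg hv
  have hd0 : d 1 = - (l i * (((ζ⁻¹ : kˣ) : k) * l i)) := if_pos rfl
  have hrel : ∑ v : X (sr i), (1 + d v) • ρ (φ v : Y) m = 0 := by
    simp only [add_smul, one_smul]
    rw [Finset.sum_add_distrib, hφ.sum_comp (fun y : X (-sr i) => ρ (y : Y) m), ← sg_def, hN]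
    have h1 : ∑ v : X (sr i), d v • ρ (φ v : Y) m = - (l i • e) := by
      rw [← Finset.add_sum_erase _ _ (Finset.mem_univ (1 : X (sr i))), hφ1, Subgroup.coe_one, rho_one, hd0]
      have h2 : ∀ v ∈ (Finset.univ : Finset (X (sr i))).erase 1, d v • ρ (φ v : Y) m = l i • ρ (v : Y) e := by
        intro v hv
        have hv1 : (v : Y) ≠ 1 := fun h => (Finset.mem_erase.1 hv).1 (Subtype.ext h)
        rw [hd1 v hv1, hφy v hv1, hve v hv1, smul_smul]
      rw [Finset.sum_congr rfl h2, ← Finset.smul_sum]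
      have h3 : ∑ v ∈ (Finset.univ : Finset (X (sr i))).erase 1, ρ (v : Y) e = (((ζ⁻¹ : kˣ) : k) * l i) • m - e := by
        rw [← hsum, ← Finset.add_sum_erase _ _ (Finset.mem_univ (1 : X (sr i))), Subgroup.coe_one, rho_one]
        abel
      rw [h3, smul_sub, smul_smul, neg_smul]
      abel
    rw [h1]
    abel
  have hind' : LinearIndependent k fun v : X (sr i) => ρ (φ v : Y) m := hind.comp φ hφ.1
  rw [Fintype.linearIndependent_iff] at hind'
  have hd : ∀ v, 1 + d v = 0 := hind' _ hrel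
  -- the permuted vectors
  let Ω : Set V := insert (-(l i • e)) (Set.range fun y : X (-sr i) => ρ (y : Y) m)
  have hve' : ∀ v : X (sr i), (v : Y) ≠ 1 → ρ (v : Y) (-(l i • e)) = ρ (φ v : Y) m := by
    intro v hv
    have h1 := hd v
    rw [hd1 v hv] at h1
    rw [map_neg, map_smul, hve v hv, smul_smul, ← neg_smul, hφy v hv]
    have h2 : -(l i * ((χ (t v) * ζ⁻¹ : kˣ) : k)) = 1 := by
      linear_combination (-1 : k) * h1
    rw [h2, one_smul]
  have hXe : ∀ v ∈ X (sr i), ρ v (-(l i • e)) ∈ Ω := by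
    intro v hv
    by_cases hv1 : v = 1
    · rw [hv1, rho_one]
      exact Set.mem_insert _ _
    · rw [hve' ⟨v, hv⟩ hv1]
      exact Set.mem_insert_of_mem _ ⟨_, rfl⟩
  have hXΩ : ∀ v ∈ X (sr i), ∀ ω ∈ Ω, ρ v ω ∈ Ω := by
    rintro v hv ω (rfl | ⟨y', rfl⟩)
    · exact hXe v hv
    · obtain ⟨w, rfl⟩ := hφ.2 y'
      by_cases hw : (w : Y) = 1
      · have h1 : w = 1 := Subtype.ext hw
        rw [h1, hφ1]
        change ρ v (ρ ((1 : X (-sr i)) : Y) m) ∈ Ω
        rw [Subgroup.coe_one, rho_one, hfixX hv]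
        exact Set.mem_insert_of_mem _ ⟨1, by change ρ ((1 : X (-sr i)) : Y) m = m; rw [Subgroup.coe_one, rho_one]⟩
      · change ρ v (ρ (φ w : Y) m) ∈ Ω
        rw [← hve' w hw, ← rho_mul]
        exact hXe _ (mul_mem hv w.2)
  have hNΩ : ∀ v ∈ X (-sr i), ∀ ω ∈ Ω, ρ v ω ∈ Ω := by
    rintro v hv ω (rfl | ⟨y', rfl⟩)
    · rw [map_neg, ← hN, rho_sg_of_mem ρ _ hv, hN]
      exact Set.mem_insert _ _
    · change ρ v (ρ (y' : Y) m) ∈ Ω
      rw [← rho_mul]
      exact Set.mem_insert_of_mem _ ⟨⟨v, hv⟩ * y', rfl⟩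
  let K : Subgroup Y :=
    { carrier := {g | (∀ ω ∈ Ω, ρ g ω ∈ Ω) ∧ ∀ ω ∈ Ω, ρ g⁻¹ ω ∈ Ω}
      one_mem' := ⟨fun ω hω => by rwa [rho_one], fun ω hω => by rwa [inv_one, rho_one]⟩
      mul_mem' := by
        intro a b ha hb
        refine ⟨fun ω hω => ?_, fun ω hω => ?_⟩
        · rw [rho_mul]; exact ha.1 _ (hb.1 _ hω)
        · rw [mul_inv_rev, rho_mul]; exact hb.2 _ (ha.2 _ hω)
      inv_mem' := by
        intro a ha
        exact ⟨ha.2, fun ω hω => by rw [inv_inv]; exact ha.1 _ hω⟩ }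
  have hLK : X (sr i) ⊔ X (-sr i) ≤ K := sup_le (fun v hv => ⟨hXΩ v hv, hXΩ _ (inv_mem hv)⟩)
    (fun v hv => ⟨hNΩ v hv, hNΩ _ (inv_mem hv)⟩)
  have hmΩ : m ∈ Ω := Set.mem_insert_of_mem _ ⟨1, rho_one ρ m⟩
  obtain ⟨v₀, hv₀, hv₀1⟩ := exists_ne_one R i
  rw [Fintype.linearIndependent_iff] at hind
  have hχ1 : ∀ t : T, (t : Y) ∈ X (sr i) ⊔ X (-sr i) → χ t = 1 := by
    intro t htL
    have h1 := (hLK htL).1 m hmΩ
    rw [hm.tor t] at h1
    rcases h1 with h1 | ⟨y', h1⟩
    · exfalso
      rw [← hN, sg_def] at h1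
      have h2 : ∑ y' : X (-sr i), ((if y' = 1 then (χ t : k) else 0) + 1) • ρ (y' : Y) m = 0 := by
        simp only [add_smul, ite_smul, zero_smul, one_smul]
        rw [Finset.sum_add_distrib, Finset.sum_ite_eq' , if_pos (Finset.mem_univ _), Subgroup.coe_one, rho_one, h1]
        abel
      have h3 := hind _ h2 (φ ⟨v₀, hv₀⟩)
      rw [hφy _ hv₀1, if_neg (hyne _ hv₀1), zero_add] at h3
      exact one_ne_zero h3
    · change ρ (y' : Y) m = (χ t : k) • m at h1
      have h2 : ∑ z : X (-sr i), ((if z = 1 then (χ t : k) else 0) + (if z = y' then (-1 : k) else 0)) •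
          ρ (z : Y) m = 0 := by
        simp only [add_smul, ite_smul, zero_smul]
        rw [Finset.sum_add_distrib, Finset.sum_ite_eq' , if_pos (Finset.mem_univ _), Finset.sum_ite_eq' ,
          if_pos (Finset.mem_univ _), Subgroup.coe_one, rho_one, h1, neg_smul, one_smul]
        abel
      have h3 := hind _ h2 1
      rw [if_pos rfl] at h3
      by_cases h4 : (1 : X (-sr i)) = y'
      · rw [if_pos h4] at h3
        exact Units.ext (by rw [Units.val_one]; linear_combination h3)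
      · rw [if_neg h4, add_zero] at h3
        exact absurd h3 (Units.ne_zero _)
  refine ⟨?_, hχ1⟩
  have h1 := hd ⟨v₀, hv₀⟩
  rw [hd1 _ hv₀1, hζdef, hχ1 _ ?_, hχ1 _ ?_, inv_one, mul_one, Units.val_one, mul_one] at h1
  · linear_combination h1
  · exact mul_mem hn hn
  · obtain ⟨b, hb, e1⟩ := ht ⟨v₀, hv₀⟩ hv₀1
    have e2 : (t ⟨v₀, hv₀⟩ : Y) = (y ⟨v₀, hv₀⟩ : Y)⁻¹ * (v₀ * n i) * b⁻¹ := by rw [e1]; group
    rw [e2]
    exact mul_mem (mul_mem (inv_mem (Subgroup.mem_sup_right (y ⟨v₀, hv₀⟩).2))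
      (mul_mem (Subgroup.mem_sup_left hv₀) hn)) (inv_mem (Subgroup.mem_sup_left hb))

end

end Cfsg.Agent.H945
end

-- part: H945/Conv
section
/-!
# Irreducible representations and simple modules over the group algebra, helper945
-/

set_option autoImplicit false
set_option linter.unusedSectionVars false

namespace Cfsg.Agent.H945

open Cfsg.Agent.Omega.CR

section

variable {Y k V : Type*} [Group Y] [Field k] [AddCommGroup V] [Module k V]

theorem asModule_single (τ : Representation k Y V) (g : Y) (v : V) :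
    (MonoidAlgebra.single g (1 : k) : MonoidAlgebra k Y) • (τ.asModuleEquiv.symm v) = τ.asModuleEquiv.symm (τ g v) := by
  apply τ.asModuleEquiv.injective
  rw [Representation.asModuleEquiv_map_smul, Representation.asAlgebraHom_single_one, LinearEquiv.apply_symm_apply,
    LinearEquiv.apply_symm_apply]

/-- an irreducible representation gives a simple module -/
theorem isSimpleModule_of_irr (τ : Representation k Y V) (hτ : Irr τ) :
    IsSimpleModule (MonoidAlgebra k Y) τ.asModule := by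
  rw [isSimpleModule_iff]
  have hnt : Nontrivial τ.asModule := hτ.1
  refine { exists_pair_ne := ⟨⊥, ⊤, bot_ne_top⟩, eq_bot_or_eq_top := fun N => ?_ }
  let L : Submodule k V := (N.restrictScalars k).map τ.asModuleEquiv.toLinearMap
  have hL : ∀ v, v ∈ L ↔ τ.asModuleEquiv.symm v ∈ N := by
    intro v
    constructor
    · rintro ⟨x, hx, rfl⟩
      change τ.asModuleEquiv.symm (τ.asModuleEquiv x) ∈ N
      rw [LinearEquiv.symm_apply_apply]
      exact hx
    · intro hv
      exact ⟨_, hv, LinearEquiv.apply_symm_apply _ _⟩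
  have hinv : ∀ g : Y, ∀ v ∈ L, τ g v ∈ L := by
    intro g v hv
    rw [hL] at hv ⊢
    rw [← asModule_single]
    exact N.smul_mem _ hv
  rcases hτ.2 L hinv with h1 | h1
  · left
    rw [eq_bot_iff]
    intro x hx
    have h2 : τ.asModuleEquiv x ∈ L := by rw [hL, LinearEquiv.symm_apply_apply]; exact hx
    rw [h1, Submodule.mem_bot] at h2
    rw [Submodule.mem_bot]
    exact τ.asModuleEquiv.injective (by rw [h2, map_zero])
  · right
    rw [eq_top_iff]
    intro x _
    have h2 : τ.asModuleEquiv x ∈ L := by rw [h1]; trivial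
    rw [hL, LinearEquiv.symm_apply_apply] at h2
    exact h2

/-- the representation of a module over the group algebra -/
noncomputable def repOf (k Y V : Type*) [Group Y] [Field k] [AddCommGroup V] [Module k V] [Module (MonoidAlgebra k Y) V]
    [IsScalarTower k (MonoidAlgebra k Y) V] : Y →* Module.End k V where
  toFun g :=
    { toFun := fun v => (MonoidAlgebra.single g (1 : k) : MonoidAlgebra k Y) • v
      map_add' := fun v w => smul_add _ v w
      map_smul' := fun c v => by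
        rw [RingHom.id_apply, ← algebraMap_smul (MonoidAlgebra k Y) c v,
          ← algebraMap_smul (MonoidAlgebra k Y) c ((MonoidAlgebra.single g (1 : k) : MonoidAlgebra k Y) • v),
          smul_smul, smul_smul, Algebra.commutes c (MonoidAlgebra.single g (1 : k) : MonoidAlgebra k Y)] }
  map_one' := by
    refine LinearMap.ext fun v => ?_
    change (MonoidAlgebra.single (1 : Y) (1 : k) : MonoidAlgebra k Y) • v = v
    rw [← MonoidAlgebra.one_def, one_smul]
  map_mul' a b := by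
    refine LinearMap.ext fun v => ?_
    change (MonoidAlgebra.single (a * b) (1 : k) : MonoidAlgebra k Y) • v =
      (MonoidAlgebra.single a (1 : k) : MonoidAlgebra k Y) • ((MonoidAlgebra.single b (1 : k) : MonoidAlgebra k Y) • v)
    rw [smul_smul, MonoidAlgebra.single_mul_single, one_mul]

/-- the group algebra acts through the group elements -/
theorem smul_eq_sum [Module (MonoidAlgebra k Y) V] [IsScalarTower k (MonoidAlgebra k Y) V] (P : V → Prop)
    (hadd : ∀ v w, P v → P w → P (v + w)) (hsm : ∀ (c : k) v, P v → P (c • v)) {v : V}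
    (hg : ∀ g, P (repOf k Y V g v)) (a : MonoidAlgebra k Y) : P (a • v) := by
  induction a using MonoidAlgebra.induction_on with
  | of g => exact hg g
  | add f g hf hg' => rw [add_smul]; exact hadd _ _ hf hg'
  | smul c f hf => rw [smul_assoc]; exact hsm c _ hf

theorem irr_repOf [Module (MonoidAlgebra k Y) V] [IsScalarTower k (MonoidAlgebra k Y) V]
    [hs : IsSimpleModule (MonoidAlgebra k Y) V] : Irr (repOf k Y V) := by
  refine ⟨IsSimpleModule.nontrivial (MonoidAlgebra k Y) V, fun L hL => ?_⟩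
  let N : Submodule (MonoidAlgebra k Y) V :=
    { carrier := L
      zero_mem' := L.zero_mem
      add_mem' := fun hv hw => L.add_mem hv hw
      smul_mem' := fun a v hv => smul_eq_sum (· ∈ L) (fun _ _ => L.add_mem) (fun c _ => L.smul_mem c)
        (fun g => hL g v hv) a }
  rcases eq_bot_or_eq_top N with h1 | h1
  · left
    ext v
    have : v ∈ L ↔ v ∈ N := Iff.rfl
    rw [this, h1]
    simp only [_root_.Submodule.mem_bot]
  · right
    ext v
    have : v ∈ L ↔ v ∈ N := Iff.rfl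
    rw [this, h1]
    simp

/-- an equivariant linear equivalence is linear over the group algebra -/
theorem exists_linearEquiv [Module (MonoidAlgebra k Y) V] [IsScalarTower k (MonoidAlgebra k Y) V] {V' : Type*}
    [AddCommGroup V'] [Module k V'] (τ : Representation k Y V') (e : V ≃ₗ[k] V')
    (he : ∀ g v, e (repOf k Y V g v) = τ g (e v)) : Nonempty (V ≃ₗ[MonoidAlgebra k Y] τ.asModule) := by
  let f : V ≃ₗ[k] τ.asModule := e.trans τ.asModuleEquiv.symm
  have hf : ∀ (a : MonoidAlgebra k Y) (v : V), f (a • v) = a • f v := ?_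
  · exact ⟨{ f with map_smul' := fun a v => hf a v }⟩
  intro a v
  induction a using MonoidAlgebra.induction_on with
  | of g =>
    change τ.asModuleEquiv.symm (e (repOf k Y V g v)) =
      (MonoidAlgebra.single g (1 : k) : MonoidAlgebra k Y) • (τ.asModuleEquiv.symm (e v))
    rw [asModule_single, he]
  | add x y hx hy => rw [add_smul, map_add, hx, hy, add_smul]
  | smul c x hx => rw [smul_assoc, map_smul, hx, smul_assoc]

/-- a linear equivalence over the group algebra is equivariant -/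
theorem exists_equivariant {V' : Type*} [AddCommGroup V'] [Module k V'] (τ : Representation k Y V)
    (τ' : Representation k Y V') (e : τ.asModule ≃ₗ[MonoidAlgebra k Y] τ'.asModule) :
    ∃ f : V ≃ₗ[k] V', ∀ g v, f (τ g v) = τ' g (f v) := by
  refine ⟨τ.asModuleEquiv.symm.trans ((e.restrictScalars k).trans τ'.asModuleEquiv), fun g v => ?_⟩
  change τ'.asModuleEquiv (e (τ.asModuleEquiv.symm (τ g v))) = τ' g (τ'.asModuleEquiv (e (τ.asModuleEquiv.symm v)))
  rw [← asModule_single, map_smul, Representation.asModuleEquiv_map_smul, Representation.asAlgebraHom_single_one]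

end

end Cfsg.Agent.H945
end

-- part: H135/BrauerCount
section
/-!
# The number of simple modules over an algebraically closed field of characteristic `p` (helper135)

`Brauer's theorem`: for a finite group `G` and an algebraically closed field `k` of characteristic `p`, a complete
irredundant family of simple `k[G]`-modules has as many members as there are conjugacy classes of elements of
order prime to `p` (`card_eq`).  Also the two inequalities separately (`card_le`, `le_card`).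
-/

set_option autoImplicit false
set_option linter.unusedSectionVars false

namespace Cfsg.Agent.H135.BrauerCount

open Cfsg.Agent.Blocks.SimpleTrace Module

universe u v w

/-! ### additivity of the trace -/

section Trace

variable {k : Type*} [Field k] {S V Q : Type*} [AddCommGroup S] [Module k S] [FiniteDimensional k S]
  [AddCommGroup V] [Module k V] [FiniteDimensional k V] [AddCommGroup Q] [Module k Q] [FiniteDimensional k Q]

theorem trace_add (i : S →ₗ[k] V) (q : V →ₗ[k] Q) (hi : Function.Injective i) (hq : Function.Surjective q)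
    (hiq : ∀ v, q v = 0 → ∃ s, i s = v) (hqi : ∀ s, q (i s) = 0) (f : V →ₗ[k] V) (fS : S →ₗ[k] S) (fQ : Q →ₗ[k] Q)
    (h1 : ∀ s, f (i s) = i (fS s)) (h2 : ∀ v, q (f v) = fQ (q v)) :
    LinearMap.trace k V f = LinearMap.trace k S fS + LinearMap.trace k Q fQ := by
  obtain ⟨s, hs⟩ := q.exists_rightInverse_of_surjective (LinearMap.range_eq_top.2 hq)
  obtain ⟨j, hj⟩ := i.exists_leftInverse_of_injective (LinearMap.ker_eq_bot.2 hi)
  have hs' : ∀ x, q (s x) = x := fun x => LinearMap.congr_fun hs x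
  have hj' : ∀ x, j (i x) = x := fun x => LinearMap.congr_fun hj x
  -- the projection onto `S` along `s`
  let π : V →ₗ[k] S := j ∘ₗ (LinearMap.id - s ∘ₗ q)
  have hπ : ∀ v, i (π v) = v - s (q v) := by
    intro v
    have h3 : q (v - s (q v)) = 0 := by rw [map_sub, hs', sub_self]
    obtain ⟨x, hx⟩ := hiq _ h3
    change i (j (v - s (q v))) = _
    rw [← hx, hj']
  have hπi : ∀ x, π (i x) = x := by
    intro x
    change j (i x - s (q (i x))) = x
    rw [hqi, map_zero, sub_zero, hj']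
  have hf : f = (f ∘ₗ i) ∘ₗ π + (f ∘ₗ s) ∘ₗ q := by
    ext v
    rw [LinearMap.add_apply]
    change f v = f (i (π v)) + f (s (q v))
    rw [hπ, ← map_add, sub_add_cancel]
  rw [hf, map_add, LinearMap.trace_comp_comm', LinearMap.trace_comp_comm' q]
  congr 2
  · ext x
    change π (f (i x)) = fS x
    rw [h1, hπi]
  · ext x
    change q (f (s x)) = fQ x
    rw [h2, hs']

end Trace

/-! ### traces of commuting endomorphisms -/

section Comm

variable {k : Type u} [Field k] [IsAlgClosed k] {A : Type v} [Ring A] [Algebra k A]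

omit [IsAlgClosed k] in
theorem exists_simple_le {V : Type w} [AddCommGroup V] [Module k V] [Module A V] [IsScalarTower k A V]
    [FiniteDimensional k V] (W : Submodule A V) (hW : W ≠ ⊥) : ∃ S : Submodule A V, S ≤ W ∧ IsSimpleModule A S := by
  have : IsArtinian A V := by
    have : IsArtinian k V := inferInstance
    exact isArtinian_of_tower k this
  have : IsAtomic (Submodule A V) := isAtomic_of_orderBot_wellFounded_lt wellFounded_lt
  rcases IsAtomic.eq_bot_or_exists_atom_le W with h | ⟨S, hS, hle⟩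
  · exact absurd h hW
  · exact ⟨S, hle, isSimpleModule_iff_isAtom.2 hS⟩

/-- if the trace of `a` vanishes on all simple modules then the trace of `a r` vanishes for every endomorphism `r` of
every finite-dimensional module -/
theorem trace_eq_zero (a : A)
    (hz : ∀ (S : Type w) [AddCommGroup S] [Module k S] [Module A S] [IsScalarTower k A S] [FiniteDimensional k S]
      [IsSimpleModule A S], LinearMap.trace k S (act a) = 0) (n : ℕ) :
    ∀ (V : Type w) [AddCommGroup V] [Module k V] [Module A V] [IsScalarTower k A V] [FiniteDimensional k V]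
      (r : V →ₗ[A] V) (r' : V →ₗ[k] V) (_ : ∀ v, r' v = r v), finrank k V = n →
      LinearMap.trace k V (act a ∘ₗ r') = 0 := by
  induction n using Nat.strong_induction_on with
  | h n ih =>
  intro V _ _ _ _ _ r r' hr hn
  have : SMulCommClass k A V := IsScalarTower.to_smulCommClass
  rcases subsingleton_or_nontrivial V with hV | hV
  · have h1 : (act a ∘ₗ r' : V →ₗ[k] V) = 0 := by
      ext v
      exact Subsingleton.elim _ _
    rw [h1, map_zero]
  obtain ⟨c, hc⟩ := Module.End.exists_eigenvalue r'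
  obtain ⟨v, hv⟩ := hc.exists_hasEigenvector
  have hv1 : r v = c • v := by rw [← hr]; exact hv.apply_eq_smul
  have hv0 : v ≠ 0 := hv.2
  let W : Submodule A V :=
    { carrier := {x | r x = c • x}
      add_mem' := by
        intro x y hx hy
        change r (x + y) = c • (x + y)
        rw [map_add, hx, hy, smul_add]
      zero_mem' := by
        change r 0 = c • (0 : V)
        rw [map_zero, smul_zero]
      smul_mem' := by
        intro b x hx
        change r (b • x) = c • (b • x)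
        rw [map_smul, hx, smul_comm] }
  have hW : W ≠ ⊥ := by
    intro e
    have : v ∈ W := hv1
    rw [e] at this
    exact hv0 this
  obtain ⟨S, hSW, hS⟩ := exists_simple_le (k := k) W hW
  have hScr : ∀ s : S, r (s : V) = c • (s : V) := fun s => hSW s.2
  have hrS : S ≤ S.comap r := by
    intro x hx
    change r x ∈ S
    rw [hScr ⟨x, hx⟩]
    exact (S.restrictScalars k).smul_mem c hx
  let i : S →ₗ[k] V := (S.restrictScalars k).subtype
  let q : V →ₗ[k] (V ⧸ S) := (S.mkQ).restrictScalars k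
  let rq : (V ⧸ S) →ₗ[A] (V ⧸ S) := S.mapQ S r hrS
  have : FiniteDimensional k S := inferInstanceAs (FiniteDimensional k (S.restrictScalars k))
  have hqfin : FiniteDimensional k (V ⧸ S) := FiniteDimensional.of_surjective q (Submodule.mkQ_surjective S)
  have key := trace_add i q Subtype.val_injective (Submodule.mkQ_surjective S)
    (fun x hx => ⟨⟨x, (Submodule.Quotient.mk_eq_zero S).1 hx⟩, rfl⟩)
    (fun s => (Submodule.Quotient.mk_eq_zero S).2 s.2)
    (act a ∘ₗ r') (c • (act a : S →ₗ[k] S)) (act a ∘ₗ rq.restrictScalars k)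
    (by
      intro s
      change a • r' (s : V) = ((c • (a • s) : S) : V)
      rw [hr, hScr]
      change a • c • (s : V) = c • a • (s : V)
      rw [smul_comm])
    (by
      intro x
      change S.mkQ (a • r' x) = a • S.mapQ S r hrS (S.mkQ x)
      rw [hr, map_smul]
      rfl)
  rw [key, map_smul, hz S, smul_zero, zero_add]
  refine ih (finrank k (V ⧸ S)) ?_ (V ⧸ S) rq (rq.restrictScalars k) (fun _ => rfl) rfl
  have h3 : 0 < finrank k S := by
    have hnt : Nontrivial S := IsSimpleModule.nontrivial A S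
    exact finrank_pos
  have h4 : finrank k (V ⧸ S) + finrank k S = finrank k V :=
    Submodule.finrank_quotient_add_finrank (S.restrictScalars k)
  omega

end Comm

/-! ### group elements -/

section Group

variable {k : Type u} [Field k] {G : Type v} [Group G]

/-- the action of a group element -/
noncomputable def el (k : Type u) [Field k] {G : Type v} [Group G] (g : G) : MonoidAlgebra k G := MonoidAlgebra.single g 1

theorem el_mul (g h : G) : el k (g * h) = el k g * el k h := by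
  rw [el, el, el, MonoidAlgebra.single_mul_single, one_mul]

theorem el_one : el k (1 : G) = 1 := rfl

theorem act_el_pow {V : Type*} [AddCommGroup V] [Module k V] [Module (MonoidAlgebra k G) V]
    [IsScalarTower k (MonoidAlgebra k G) V] (g : G) (n : ℕ) :
    (act (el k (g ^ n)) : V →ₗ[k] V) = (act (el k g)) ^ n := by
  induction n with
  | zero => rw [pow_zero, pow_zero, el_one, act_one]
  | succ n ih => rw [pow_succ, el_mul, act_mul, ih, pow_succ]

/-- the trace of a group element depends only on its `p'`-part -/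
theorem trace_of_ppart {p : ℕ} [Fact p.Prime] [CharP k p] {V : Type*} [AddCommGroup V] [Module k V]
    [Module (MonoidAlgebra k G) V] [IsScalarTower k (MonoidAlgebra k G) V] [FiniteDimensional k V]
    {x y : G} (hxy : Commute x y) {n : ℕ} (hx : x ^ p ^ n = 1) :
    LinearMap.trace k V (act (el k (x * y))) = LinearMap.trace k V (act (el k y)) := by
  set f : V →ₗ[k] V := act (el k (x * y)) with hf
  set f' : V →ₗ[k] V := act (el k y) with hf'
  have hcomm : Commute f f' := by
    change f * f' = f' * f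
    rw [hf, hf', ← act_mul, ← act_mul, ← el_mul, ← el_mul, hxy.eq, mul_assoc, hxy.eq]
  have hchar : CharP (Module.End k V) p ∨ Subsingleton V := by
    rcases subsingleton_or_nontrivial V with h | h
    · exact Or.inr h
    · left
      have : Nontrivial (Module.End k V) := inferInstance
      exact charP_of_injective_algebraMap (algebraMap k (Module.End k V)).injective p
  rcases hchar with hc | hs
  · have hnil : (f - f') ^ p ^ n = 0 := by
      have h1 := sub_pow_char_pow_of_commute p n hcomm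
      rw [h1, hf, hf', ← act_el_pow, ← act_el_pow, hxy.mul_pow, hx, one_mul, sub_self]
    have h2 := LinearMap.isNilpotent_trace_of_isNilpotent (R := k) (M := V) (⟨_, hnil⟩ : IsNilpotent (f - f'))
    rw [isNilpotent_iff_eq_zero, map_sub, sub_eq_zero] at h2
    exact h2
  · have : f = f' := by
      ext v
      exact Subsingleton.elim _ _
    rw [this]

/-- decomposition of an element of finite order into `p`-part and `p'`-part -/
theorem exists_decomp [Finite G] (p : ℕ) [Fact p.Prime] (g : G) : ∃ x y : G, Commute x y ∧ g = x * y ∧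
    (∃ n, x ^ p ^ n = 1) ∧ (orderOf y).Coprime p := by
  have hp : p.Prime := Fact.out
  obtain ⟨n, m, hm, hnm⟩ := Nat.exists_eq_pow_mul_and_not_dvd (orderOf_pos g).ne' p hp.ne_one
  have hcop : (p ^ n).Coprime m := Nat.Coprime.pow_left n ((Nat.Prime.coprime_iff_not_dvd hp).2 hm)
  obtain ⟨a, ha1, ha2⟩ := Nat.chineseRemainder hcop 1 0
  obtain ⟨b, hb1, hb2⟩ := Nat.chineseRemainder hcop 0 1
  refine ⟨g ^ a, g ^ b, (Commute.refl g).pow_pow a b, ?_, ⟨n, ?_⟩, ?_⟩
  · rw [← pow_add]
    conv_lhs => rw [← pow_one g]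
    rw [pow_eq_pow_iff_modEq, hnm, ← Nat.modEq_and_modEq_iff_modEq_mul hcop]
    exact ⟨(ha1.add hb1).symm, (ha2.add hb2).symm⟩
  · rw [← pow_mul, ← orderOf_dvd_iff_pow_eq_one, hnm, mul_comm]
    exact Nat.mul_dvd_mul ((Nat.modEq_zero_iff_dvd).1 ha2) dvd_rfl
  · have h1 : (g ^ b) ^ m = 1 := by
      rw [← pow_mul, ← orderOf_dvd_iff_pow_eq_one, hnm]
      exact Nat.mul_dvd_mul ((Nat.modEq_zero_iff_dvd).1 hb1) dvd_rfl
    exact Nat.Coprime.coprime_dvd_left (orderOf_dvd_of_pow_eq_one h1) ((Nat.Prime.coprime_iff_not_dvd hp).2 hm).symm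

/-! ### permutation modules -/

theorem trace_funLeft {X : Type*} [Fintype X] [DecidableEq X] (τ : X → X) :
    LinearMap.trace k (X → k) (LinearMap.funLeft k k τ) = ((Finset.univ.filter fun x => τ x = x).card : k) := by
  rw [LinearMap.trace_eq_matrix_trace k (Pi.basisFun k X), Matrix.trace, Finset.card_filter]
  push_cast
  refine Finset.sum_congr rfl fun x _ => ?_
  rw [Matrix.diag_apply, LinearMap.toMatrix_apply, Pi.basisFun_repr, Pi.basisFun_apply, LinearMap.funLeft_apply,
    Pi.single_apply]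

/-- the permutation representation on functions -/
noncomputable def prm (k : Type u) [Field k] (G : Type v) [Group G] (X : Type*) [MulAction G X] :
    Representation k G (X → k) where
  toFun g := LinearMap.funLeft k k (fun x => g⁻¹ • x)
  map_one' := by
    ext f x
    simp [LinearMap.funLeft]
  map_mul' g h := by
    ext f x
    simp only [LinearMap.funLeft, mul_smul, _root_.LinearMap.funLeft, _root_.mul_inv_rev, _root_.SemigroupAction.mul_smul, _root_.LinearMap.coe_mk, _root_.AddHom.coe_mk, _root_.Function.comp_apply, _root_.Module.End.mul_apply]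

variable [Finite G]

/-- right multiplication by an element of the centralizer -/
def rmul (P : Subgroup G) (g : G) (hg : ∀ x ∈ P, x * g = g * x) : G ⧸ P → G ⧸ P :=
  Quotient.map' (fun x => x * g) (by
    intro x y hxy
    rw [QuotientGroup.leftRel_apply] at hxy ⊢
    have e : (x * g)⁻¹ * (y * g) = x⁻¹ * y := by
      calc (x * g)⁻¹ * (y * g) = g⁻¹ * ((x⁻¹ * y) * g) := by group
        _ = g⁻¹ * (g * (x⁻¹ * y)) := by rw [hg _ hxy]
        _ = x⁻¹ * y := by group
    rw [e]
    exact hxy)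

/-- two commuting elements of coprime orders whose product has order prime to `p` -/
theorem eq_one_of_coprime {p : ℕ} [Fact p.Prime] {u g : G} (hug : Commute u g) {n : ℕ} (hu : u ^ p ^ n = 1)
    (hg : (orderOf g).Coprime p) (hgu : (orderOf (g * u)).Coprime p) : u = 1 := by
  have h1 : u ^ (orderOf g * orderOf (g * u)) = 1 := by
    have h2 : (g * u) ^ (orderOf g * orderOf (g * u)) = 1 := by
      rw [mul_comm, pow_mul, pow_orderOf_eq_one, one_pow]
    have h3 : g ^ (orderOf g * orderOf (g * u)) = 1 := by rw [pow_mul, pow_orderOf_eq_one, one_pow]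
    rw [hug.symm.mul_pow, h3, one_mul] at h2
    exact h2
  have h4 : (orderOf g * orderOf (g * u)).Coprime (p ^ n) := Nat.Coprime.pow_right n (Nat.Coprime.mul_left hg hgu)
  have h5 := Nat.dvd_gcd (orderOf_dvd_of_pow_eq_one h1) (orderOf_dvd_of_pow_eq_one hu)
  rw [h4] at h5
  exact orderOf_eq_one_iff.1 (Nat.dvd_one.1 h5)

/-- the Sylow subgroup of the centralizer -/
theorem exists_sylow (p : ℕ) [Fact p.Prime] (g : G) : ∃ P : Subgroup G, (∀ x ∈ P, x * g = g * x) ∧
    (∀ x ∈ P, ∃ n, x ^ p ^ n = 1) ∧ ∃ m, Nat.card (Subgroup.centralizer ({g} : Set G)) = Nat.card P * m ∧ ¬ p ∣ m := by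
  obtain ⟨S⟩ : Nonempty (Sylow p (Subgroup.centralizer ({g} : Set G))) := inferInstance
  refine ⟨(S : Subgroup (Subgroup.centralizer ({g} : Set G))).map (Subgroup.subtype _), ?_, ?_,
    (S : Subgroup (Subgroup.centralizer ({g} : Set G))).index, ?_, ?_⟩
  · rintro _ ⟨x, hx, rfl⟩
    exact (Subgroup.mem_centralizer_iff.1 x.2 g rfl).symm
  · rintro _ ⟨x, hx, rfl⟩
    obtain ⟨n, hn⟩ := S.isPGroup' ⟨x, hx⟩
    refine ⟨n, ?_⟩
    have h1 := congrArg (fun y : (S : Subgroup (Subgroup.centralizer ({g} : Set G))) =>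
      ((y : Subgroup.centralizer ({g} : Set G)) : G)) hn
    simpa only [_root_.Subgroup.subtype_apply, _root_.SubmonoidClass.mk_pow, _root_.SubmonoidClass.coe_pow, _root_.OneMemClass.coe_one] using h1
  · rw [Subgroup.card_map_of_injective (Subgroup.subtype_injective _), Subgroup.card_mul_index]
  · exact S.not_dvd_index

theorem card_fix {p : ℕ} [Fact p.Prime] {g : G} (hg : (orderOf g).Coprime p) {P : Subgroup G}
    (hP : ∀ x ∈ P, x * g = g * x) (hPp : ∀ x ∈ P, ∃ n, x ^ p ^ n = 1) {m : ℕ}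
    (hm : Nat.card (Subgroup.centralizer ({g} : Set G)) = Nat.card P * m)
    {h : G} (hh : (orderOf h).Coprime p) [Fintype (G ⧸ P)] [DecidableEq (G ⧸ P)] :
    ((¬ ∃ x, x⁻¹ * h * x = g) → (Finset.univ.filter fun q : G ⧸ P => rmul P g hP (h⁻¹ • q) = q).card = 0) ∧
    (h = g → (Finset.univ.filter fun q : G ⧸ P => rmul P g hP (h⁻¹ • q) = q).card = m) := by
  have key : ∀ x : G, rmul P g hP (h⁻¹ • (x : G ⧸ P)) = (x : G ⧸ P) ↔ x⁻¹ * h * x = g := by
    intro x
    change ((h⁻¹ * x * g : G) : G ⧸ P) = (x : G ⧸ P) ↔ _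
    rw [QuotientGroup.eq]
    constructor
    · intro hx
      -- `u = (h⁻¹ x g)⁻¹ x = g⁻¹ x⁻¹ h x`
      set u := (h⁻¹ * x * g)⁻¹ * x with hu
      have e1 : x⁻¹ * h * x = g * u := by rw [hu]; group
      obtain ⟨n, hn⟩ := hPp u hx
      have h2 : (orderOf (g * u)).Coprime p := by
        rw [← e1]
        have : orderOf (x⁻¹ * h * x) = orderOf h := by
          have h3 := orderOf_injective (MulAut.conj x⁻¹).toMonoidHom (MulAut.conj x⁻¹).injective h
          simpa only [MulAut.conj_apply, _root_.map_inv, _root_.MulEquiv.toMonoidHom_eq_coe, _root_.MonoidHom.coe_coe, _root_.MulAut.inv_apply, _root_.MulAut.conj_symm_apply] using h3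
        rwa [this]
      have h3 := eq_one_of_coprime (hP u hx) hn hg h2
      rw [e1, h3, mul_one]
    · intro hx
      have e1 : (h⁻¹ * x * g)⁻¹ * x = g⁻¹ * (x⁻¹ * h * x) := by group
      rw [e1, hx, inv_mul_cancel]
      exact P.one_mem
  constructor
  · intro hno
    rw [Finset.card_eq_zero, Finset.filter_eq_empty_iff]
    intro q _ hq
    induction q using QuotientGroup.induction_on with
    | H x => exact hno ⟨x, (key x).1 hq⟩
  · rintro rfl
    have h1 := Nat.card_congr (QuotientGroup.preimageMkEquivSubgroupProdSet P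
      {q : G ⧸ P | rmul P h hP (h⁻¹ • q) = q})
    have h2 : (QuotientGroup.mk ⁻¹' {q : G ⧸ P | rmul P h hP (h⁻¹ • q) = q} : Set G) =
        (Subgroup.centralizer ({h} : Set G) : Set G) := by
      ext x
      rw [Set.mem_preimage, Set.mem_ofPred_eq, key x, SetLike.mem_coe, Subgroup.mem_centralizer_singleton_iff]
      constructor
      · intro e
        calc x * h = x * (x⁻¹ * h * x) := by rw [e]
          _ = h * x := by group
      · intro e
        calc x⁻¹ * h * x = x⁻¹ * (h * x) := by group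
          _ = x⁻¹ * (x * h) := by rw [e]
          _ = h := by group
    rw [h2, Nat.card_prod] at h1
    have h3 : Nat.card ({q : G ⧸ P | rmul P h hP (h⁻¹ • q) = q} : Set (G ⧸ P)) =
        (Finset.univ.filter fun q : G ⧸ P => rmul P h hP (h⁻¹ • q) = q).card := by
      rw [Nat.card_eq_fintype_card, ← Set.toFinset_card]
      congr 1
      ext q
      simp
    have h4 : Nat.card (Subgroup.centralizer ({h} : Set G)) = Nat.card P *
        (Finset.univ.filter fun q : G ⧸ P => rmul P h hP (h⁻¹ • q) = q).card := by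
      rw [← h3, ← h1]
      rfl
    rw [hm] at h4
    exact (Nat.eq_of_mul_eq_mul_left Nat.card_pos h4).symm

end Group

/-! ### the theorem -/

section Main

variable (k : Type u) [Field k] [IsAlgClosed k] (p : ℕ) [Fact p.Prime] [CharP k p] (G : Type v) [Group G] [Finite G]

/-- the `p`-regular classes -/
abbrev Reg (p : ℕ) (G : Type v) [Group G] : Type v :=
  {c : ConjClasses G // ∃ g, ConjClasses.mk g = c ∧ (orderOf g).Coprime p}

/-- a representative -/
noncomputable def rep {p : ℕ} {G : Type v} [Group G] (c : Reg p G) : G := c.2.choose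

theorem rep_mk {p : ℕ} {G : Type v} [Group G] (c : Reg p G) : ConjClasses.mk (rep c) = c.1 := c.2.choose_spec.1

theorem rep_coprime {p : ℕ} {G : Type v} [Group G] (c : Reg p G) : (orderOf (rep c)).Coprime p := c.2.choose_spec.2

variable {k p G}

variable {I : Type w} [Finite I] (M : I → Type (max u v)) [∀ i, AddCommGroup (M i)] [∀ i, Module k (M i)]
  [∀ i, Module (MonoidAlgebra k G) (M i)] [∀ i, IsScalarTower k (MonoidAlgebra k G) (M i)]
  [∀ i, FiniteDimensional k (M i)] [∀ i, IsSimpleModule (MonoidAlgebra k G) (M i)]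

/-- the trace functions on the `p`-regular classes -/
noncomputable def tf (p : ℕ) (i : I) (c : Reg p G) : k := LinearMap.trace k (M i) (act (el k (rep c)))

theorem trace_conj_el (V : Type*) [AddCommGroup V] [Module k V]
    [Module (MonoidAlgebra k G) V] [IsScalarTower k (MonoidAlgebra k G) V] [FiniteDimensional k V]
    {g h : G} (hgh : ConjClasses.mk g = ConjClasses.mk h) :
    LinearMap.trace k V (act (el k g)) = LinearMap.trace k V (act (el k h)) := by
  rw [ConjClasses.mk_eq_mk_iff_isConj, isConj_iff] at hgh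
  obtain ⟨c, rfl⟩ := hgh
  rw [el_mul, act_mul, LinearMap.trace_mul_comm, ← act_mul, ← el_mul]
  congr 3
  group

theorem exists_class (p : ℕ) [Fact p.Prime] [CharP k p] (g : G) : ∃ c : Reg p G, ∀ (V : Type (max u v)) [AddCommGroup V] [Module k V]
    [Module (MonoidAlgebra k G) V] [IsScalarTower k (MonoidAlgebra k G) V] [FiniteDimensional k V],
    LinearMap.trace k V (act (el k g)) = LinearMap.trace k V (act (el k (rep c))) := by
  obtain ⟨x, y, hxy, rfl, ⟨n, hn⟩, hy⟩ := exists_decomp p g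
  refine ⟨⟨ConjClasses.mk y, y, rfl, hy⟩, ?_⟩
  intro V _ _ _ _ _
  rw [trace_of_ppart hxy hn]
  exact trace_conj_el V (rep_mk (⟨ConjClasses.mk y, y, rfl, hy⟩ : Reg p G)).symm

/-- the trace functions of pairwise non-isomorphic simple modules are linearly independent on the `p`-regular classes -/
theorem linearIndependent (hinj : ∀ i j, Nonempty (M i ≃ₗ[MonoidAlgebra k G] M j) → i = j) :
    LinearIndependent k (tf (k := k) (G := G) M p) := by
  classical
  have : Fintype I := Fintype.ofFinite I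
  have : Fintype G := Fintype.ofFinite G
  rw [Fintype.linearIndependent_iff]
  intro a ha j
  obtain ⟨b, hb⟩ := exists_trace_dual (F := k) (A := MonoidAlgebra k G) M
    (fun i j hij => ⟨fun e => hij (hinj i j ⟨e⟩)⟩) j
  choose c hc using fun g : G => exists_class (k := k) p g
  have hb' : ∀ i, LinearMap.trace k (M i) (act b) = ∑ g : G, b.coeff g * tf M p i (c g) := by
    intro i
    have h1 : b = ∑ g : G, b.coeff g • el k g := by
      ext g
      simp only [el, MonoidAlgebra.coeff_single, _root_.Cfsg.Agent.H135.BrauerCount.el, _root_.MonoidAlgebra.smul_single, _root_.smul_eq_mul, _root_.mul_one, _root_.MonoidAlgebra.coeff_sum, _root_.MonoidAlgebra.coeff_single, _root_.Finsupp.univ_sum_single]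
    conv_lhs => rw [h1]
    rw [act_sum, map_sum]
    refine Finset.sum_congr rfl fun g _ => ?_
    rw [act_smul, map_smul, smul_eq_mul, hc g (M i)]
    rfl
  have h2 : ∑ i, a i * LinearMap.trace k (M i) (act b) = 0 := by
    have h3 : ∀ c' : Reg p G, ∑ i, a i * tf M p i c' = 0 := by
      intro c'
      have := congrFun ha c'
      simpa only [Finset.sum_apply, _root_.Pi.smul_apply, _root_.smul_eq_mul, _root_.Pi.zero_apply] using this
    calc ∑ i, a i * LinearMap.trace k (M i) (act b) = ∑ i, ∑ g : G, b.coeff g * (a i * tf M p i (c g)) := by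
          refine Finset.sum_congr rfl fun i _ => ?_
          rw [hb', Finset.mul_sum]
          refine Finset.sum_congr rfl fun g _ => ?_
          ring
      _ = ∑ g : G, b.coeff g * ∑ i, a i * tf M p i (c g) := by
          rw [Finset.sum_comm]
          refine Finset.sum_congr rfl fun g _ => ?_
          rw [Finset.mul_sum]
      _ = 0 := by simp only [h3, _root_.MulZeroClass.mul_zero, _root_.Finset.sum_const_zero]
  rw [Finset.sum_eq_single j] at h2
  · rw [hb j, if_pos rfl, mul_one] at h2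
    exact h2
  · intro i _ hij
    rw [hb i, if_neg (Ne.symm hij), mul_zero]
  · intro h
    exact absurd (Finset.mem_univ _) h

theorem trace_rep (a : MonoidAlgebra k G)
    (hz : ∀ (S : Type (max u v)) [AddCommGroup S] [Module k S] [Module (MonoidAlgebra k G) S]
      [IsScalarTower k (MonoidAlgebra k G) S] [FiniteDimensional k S]
      [IsSimpleModule (MonoidAlgebra k G) S], LinearMap.trace k S (act a) = 0)
    (V : Type (max u v)) [AddCommGroup V] [Module k V] [FiniteDimensional k V] (ρ : Representation k G V)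
    (rk : V →ₗ[k] V) (hcomm : ∀ (g : G) (f : V), rk (ρ g f) = ρ g (rk f)) :
    LinearMap.trace k V (ρ.asAlgebraHom a ∘ₗ rk) = 0 := by
  let _ : Module (MonoidAlgebra k G) V := Module.compHom V (ρ.asAlgebraHom : MonoidAlgebra k G →+* Module.End k V)
  have hsmul : ∀ (b : MonoidAlgebra k G) (v : V), b • v = ρ.asAlgebraHom b v := fun b v => rfl
  have _ : IsScalarTower k (MonoidAlgebra k G) V := ⟨fun c b v => by
    rw [hsmul, hsmul, map_smul, LinearMap.smul_apply]⟩
  have hcomm' : ∀ (b : MonoidAlgebra k G) (f : V), rk (ρ.asAlgebraHom b f) = ρ.asAlgebraHom b (rk f) := by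
    intro b f
    induction b using MonoidAlgebra.induction_linear with
    | zero => simp only [_root_.map_zero, _root_.LinearMap.zero_apply]
    | add x y hx hy => simp only [map_add, LinearMap.add_apply, hx, hy]
    | single g t =>
      rw [Representation.asAlgebraHom_single, LinearMap.smul_apply, LinearMap.smul_apply, map_smul, hcomm]
  let r : V →ₗ[MonoidAlgebra k G] V :=
    { toFun := rk
      map_add' := rk.map_add
      map_smul' := fun b f => hcomm' b f }
  have h1 := trace_eq_zero a hz _ V r rk (fun _ => rfl) rfl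
  exact h1

/-- the trace functions of a complete family of simple modules span the functions on the `p`-regular classes -/
theorem span_eq_top (hall : ∀ (V : Type (max u v)) [AddCommGroup V] [Module (MonoidAlgebra k G) V]
      [IsSimpleModule (MonoidAlgebra k G) V], ∃ i, Nonempty (V ≃ₗ[MonoidAlgebra k G] M i)) :
    Submodule.span k (Set.range (tf (k := k) (G := G) M p)) = ⊤ := by
  classical
  have : Fintype I := Fintype.ofFinite I
  have : Fintype (Reg p G) := Fintype.ofFinite _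
  by_contra hne
  obtain ⟨φ, hφ0, hφ⟩ := Submodule.exists_le_ker_of_lt_top _ (lt_top_iff_ne_top.2 hne)
  apply hφ0
  -- the element of the group algebra
  let e : Reg p G → (Reg p G → k) := fun c => Pi.single c 1
  let a : MonoidAlgebra k G := ∑ c : Reg p G, φ (e c) • el k (rep c)
  have hφsum : ∀ f : Reg p G → k, φ f = ∑ c, φ (e c) * f c := by
    intro f
    conv_lhs => rw [← Finset.univ_sum_single f, map_sum]
    refine Finset.sum_congr rfl fun c _ => ?_
    have : (Pi.single c (f c) : Reg p G → k) = f c • e c := by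
      simp only [e]
      rw [← Pi.single_smul, smul_eq_mul, mul_one]
    rw [this, map_smul, smul_eq_mul, mul_comm]
  have hz : ∀ (S : Type (max u v)) [AddCommGroup S] [Module k S] [Module (MonoidAlgebra k G) S]
      [IsScalarTower k (MonoidAlgebra k G) S] [FiniteDimensional k S]
      [IsSimpleModule (MonoidAlgebra k G) S], LinearMap.trace k S (act a) = 0 := by
    intro S _ _ _ _ _ _
    obtain ⟨i, ⟨E⟩⟩ := hall S
    have h1 : (E.restrictScalars k).conj (act a : S →ₗ[k] S) = act a := by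
      ext m
      change E (a • E.symm m) = a • m
      rw [map_smul, LinearEquiv.apply_symm_apply]
    rw [← LinearMap.trace_conj' (act a : S →ₗ[k] S) (E.restrictScalars k), h1]
    simp only [a]
    rw [act_sum, map_sum]
    have h2 : φ (tf M p i) = 0 := hφ (Submodule.subset_span ⟨i, rfl⟩)
    rw [hφsum] at h2
    rw [← h2]
    refine Finset.sum_congr rfl fun c _ => ?_
    rw [act_smul, map_smul, smul_eq_mul]
    rfl
  -- evaluate on a permutation module
  have hzero : ∀ c, φ (e c) = 0 := by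
    intro c
    obtain ⟨P, hP, hPp, m, hm, hpm⟩ := exists_sylow p (rep c)
    have : Fintype (G ⧸ P) := Fintype.ofFinite _
    let ρ := prm k G (G ⧸ P)
    -- right multiplication
    let rk : (G ⧸ P → k) →ₗ[k] (G ⧸ P → k) := LinearMap.funLeft k k (rmul P (rep c) hP)
    have hcomm : ∀ (g : G) (f : G ⧸ P → k), rk (ρ g f) = ρ g (rk f) := by
      intro g f
      ext q
      induction q using QuotientGroup.induction_on with
      | H x =>
        change f (g⁻¹ • rmul P (rep c) hP (x : G ⧸ P)) = f (rmul P (rep c) hP (g⁻¹ • (x : G ⧸ P)))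
        congr 1
        change ((g⁻¹ * (x * rep c) : G) : G ⧸ P) = ((g⁻¹ * x * rep c : G) : G ⧸ P)
        rw [mul_assoc]
    have h1 := trace_rep a hz (G ⧸ P → k) ρ rk hcomm
    have h2 : ρ.asAlgebraHom a ∘ₗ rk =
        ∑ c' : Reg p G, φ (e c') • (LinearMap.funLeft k k (fun q => rmul P (rep c) hP ((rep c')⁻¹ • q)) :
          (G ⧸ P → k) →ₗ[k] (G ⧸ P → k)) := by
      simp only [a]
      rw [map_sum]
      refine LinearMap.ext fun f => ?_
      rw [LinearMap.comp_apply, LinearMap.sum_apply, LinearMap.sum_apply]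
      refine Finset.sum_congr rfl fun c' _ => ?_
      rw [map_smul, el, Representation.asAlgebraHom_single_one, LinearMap.smul_apply, LinearMap.smul_apply]
      rfl
    rw [h2] at h1
    have h3 := h1
    rw [map_sum, Finset.sum_eq_single c] at h3
    · rw [map_smul, trace_funLeft, (card_fix (rep_coprime c) hP hPp hm (rep_coprime c)).2 rfl, smul_eq_mul] at h3
      have h4 : ((m : ℕ) : k) ≠ 0 := by
        intro h5
        exact hpm ((CharP.cast_eq_zero_iff k p m).1 h5)
      exact (mul_eq_zero.1 h3).resolve_right h4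
    · intro c' _ hc'
      rw [map_smul, trace_funLeft, (card_fix (rep_coprime c) hP hPp hm (rep_coprime c')).1 ?_, Nat.cast_zero,
        smul_zero]
      rintro ⟨x, hx⟩
      apply hc'
      apply Subtype.ext
      rw [← rep_mk c, ← rep_mk c', ConjClasses.mk_eq_mk_iff_isConj, isConj_iff]
      exact ⟨x⁻¹, by rw [inv_inv]; exact hx⟩
    · intro h
      exact absurd (Finset.mem_univ _) h
  ext f
  rw [LinearMap.comp_apply, LinearMap.comp_apply, LinearMap.zero_apply]
  exact hzero f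

end Main

/-! ### final form, with module structures over the group algebra only -/

section Final

variable (k : Type u) [Field k] [IsAlgClosed k] (p : ℕ) [Fact p.Prime] [CharP k p] (G : Type v) [Group G] [Finite G]
  (I : Type w) [Finite I] (M : I → Type (max u v)) [∀ i, AddCommGroup (M i)]
  [∀ i, Module (MonoidAlgebra k G) (M i)] [∀ i, IsSimpleModule (MonoidAlgebra k G) (M i)]

/-- pairwise non-isomorphic simple modules: at most as many as `p`-regular classes -/
theorem card_le (hinj : ∀ i j, Nonempty (M i ≃ₗ[MonoidAlgebra k G] M j) → i = j) :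
    Nat.card I ≤ Nat.card {c : ConjClasses G // ∃ g, ConjClasses.mk g = c ∧ (orderOf g).Coprime p} := by
  classical
  let _ : ∀ i, Module k (M i) := fun i => Module.compHom (M i) (algebraMap k (MonoidAlgebra k G))
  have _ : ∀ i, IsScalarTower k (MonoidAlgebra k G) (M i) := fun i => ⟨fun c b m => by
    change (c • b) • m = (algebraMap k (MonoidAlgebra k G) c) • b • m
    rw [smul_smul, Algebra.smul_def]⟩
  have _ : ∀ i, FiniteDimensional k (M i) := fun i => by
    have h1 : Module.Finite (MonoidAlgebra k G) (M i) := inferInstance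
    exact Module.Finite.trans (MonoidAlgebra k G) (M i)
  have : Fintype I := Fintype.ofFinite I
  have : Fintype (Reg p G) := Fintype.ofFinite _
  have h1 := (linearIndependent (k := k) (p := p) (G := G) M hinj).fintype_card_le_finrank
  rw [Module.finrank_fintype_fun_eq_card] at h1
  rwa [Nat.card_eq_fintype_card, Nat.card_eq_fintype_card]

/-- a complete family of simple modules: at least as many as `p`-regular classes -/
theorem le_card (hall : ∀ (V : Type (max u v)) [AddCommGroup V] [Module (MonoidAlgebra k G) V]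
      [IsSimpleModule (MonoidAlgebra k G) V], ∃ i, Nonempty (V ≃ₗ[MonoidAlgebra k G] M i)) :
    Nat.card {c : ConjClasses G // ∃ g, ConjClasses.mk g = c ∧ (orderOf g).Coprime p} ≤ Nat.card I := by
  classical
  let _ : ∀ i, Module k (M i) := fun i => Module.compHom (M i) (algebraMap k (MonoidAlgebra k G))
  have _ : ∀ i, IsScalarTower k (MonoidAlgebra k G) (M i) := fun i => ⟨fun c b m => by
    change (c • b) • m = (algebraMap k (MonoidAlgebra k G) c) • b • m
    rw [smul_smul, Algebra.smul_def]⟩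
  have _ : ∀ i, FiniteDimensional k (M i) := fun i => by
    have h1 : Module.Finite (MonoidAlgebra k G) (M i) := inferInstance
    exact Module.Finite.trans (MonoidAlgebra k G) (M i)
  have : Fintype I := Fintype.ofFinite I
  have : Fintype (Reg p G) := Fintype.ofFinite _
  have h1 := span_eq_top (k := k) (p := p) (G := G) M hall
  have h2 := finrank_range_le_card (R := k) (tf (k := k) (G := G) M p)
  rw [Set.finrank, h1, finrank_top, Module.finrank_fintype_fun_eq_card] at h2
  rwa [Nat.card_eq_fintype_card, Nat.card_eq_fintype_card]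

/-- **Brauer's theorem**: the number of simple modules over an algebraically closed field of characteristic `p` is the
number of classes of elements of order prime to `p`. -/
theorem card_eq (hinj : ∀ i j, Nonempty (M i ≃ₗ[MonoidAlgebra k G] M j) → i = j)
    (hall : ∀ (V : Type (max u v)) [AddCommGroup V] [Module (MonoidAlgebra k G) V]
      [IsSimpleModule (MonoidAlgebra k G) V], ∃ i, Nonempty (V ≃ₗ[MonoidAlgebra k G] M i)) :
    Nat.card {c : ConjClasses G // ∃ g, ConjClasses.mk g = c ∧ (orderOf g).Coprime p} = Nat.card I :=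
  le_antisymm (le_card k p G I M hall) (card_le k p G I M hinj)

end Final

end Cfsg.Agent.H135.BrauerCount
end

-- part: H945/Count
section
/-!
# The number of `p`-regular classes of a group with a root group datum, helper945

* `card_regular_eq` : it is the number of pairs `(χ, K)`, `χ : T →* kˣ`, `K ⊆ {i | χ trivial on T ∩ ⟨X_i, X_{-i}⟩}`;
* `card_regular_of_torus` : `(|C| + 1) ^ l` if `T` is the direct product of the `T ∩ ⟨X_i, X_{-i}⟩ ≅ C`.
-/

set_option autoImplicit false
set_option linter.unusedSectionVars false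

namespace Cfsg.Agent.H945

open CoxeterSystem Cfsg.Agent.ChevalleyStructure.CoxeterGeom Cfsg.Agent.Tits.Roots Cfsg.Agent.Tits.Core
  Cfsg.Agent.Tits.Exchange Cfsg.Agent.Nodes.Reps Cfsg.Agent.Nodes.BNOf Cfsg.Agent.Nodes.StabComb
  Cfsg.Agent.Nodes.Bruhat Cfsg.Agent.Nodes.OppDec Cfsg.Agent.Nodes.LeviDec Cfsg.Agent.KFacts.RgdOpp
open Cfsg.Agent.Omega.CR

universe u v

section

variable {I : Type*} {W : Type*} {Y : Type v} [Fintype I] [DecidableEq I] [Group W] [Group Y] [Finite Y]
  {M : CoxeterMatrix I}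
  {cs : CoxeterSystem M W} {A : I → I → ℤ} {h : IsCartan M A} {p : ℕ} {T : Subgroup Y} {n : I → Y}
  {X : (I → ℤ) → Subgroup Y} {k : Type u} [Field k]

/-- the weights -/
def WtSet (T : Subgroup Y) (X : (I → ℤ) → Subgroup Y) (k : Type u) [Field k] : Type _ :=
  {w : (T →* kˣ) × Set I // ∀ i ∈ w.2, ∀ t : T, (t : Y) ∈ X (sr i) ⊔ X (-sr i) → w.1 t = 1}

open Classical in
/-- the eigenvalues -/
noncomputable def lOf (k : Type u) [Field k] (K : Set I) : I → k := fun i => if i ∈ K then -1 else 0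

theorem lOf_inj {K K' : Set I} (hK : lOf k K = lOf k K') : K = K' := by
  classical
  ext i
  have h1 := congrFun hK i
  unfold lOf at h1
  by_cases h2 : i ∈ K <;> by_cases h3 : i ∈ K'
  · exact ⟨fun _ => h3, fun _ => h2⟩
  · rw [if_pos h2, if_neg h3, neg_eq_zero] at h1
    exact absurd h1 one_ne_zero
  · rw [if_neg h2, if_pos h3] at h1
    exact absurd (neg_eq_zero.1 h1.symm) one_ne_zero
  · exact ⟨fun h => absurd h h2, fun h => absurd h h3⟩

variable [Finite W] [Fact p.Prime] [CharP k p]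

/-- every weight occurs -/
theorem exists_irr_weight (R : RGD cs h p T n X) (hG : GG cs h T X = ⊤) (hn : ∀ i, n i ∈ X (sr i) ⊔ X (-sr i))
    (w : WtSet T X k) :
    ∃ (S : Submodule k (Y → k)) (L : Submodule k S) (τ : Y →* Module.End k (S ⧸ L)) (m' : S ⧸ L), Irr τ ∧
      Wt cs h n X τ w.1.1 (lOf k w.1.2) m' := by
  classical
  obtain ⟨⟨χ, K⟩, hw⟩ := w
  change ∃ (S : Submodule k (Y → k)) (L : Submodule k S) (τ : Y →* Module.End k (S ⧸ L)) (m' : S ⧸ L), Irr τ ∧
      Wt cs h n X τ χ (lOf k K) m'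
  let J : Set I := {i | i ∉ K ∧ ∀ t : T, (t : Y) ∈ X (sr i) ⊔ X (-sr i) → χ t = 1}
  have hχ : ∀ t : T, (t : Y) ∈ DJ cs h X J → χ t = 1 := by
    intro t ht
    have h1 : (⨆ j : J, T ⊓ Cfsg.Agent.Nodes.FreeTorus.LL X (sr (j : I))) ≤ χ.ker.map T.subtype := by
      refine iSup_le fun j => ?_
      rintro s ⟨hs1, hs2⟩
      exact ⟨⟨s, hs1⟩, j.2.2 ⟨s, hs1⟩ hs2, rfl⟩
    obtain ⟨s, hs, e⟩ := h1 (T_inf_DJ R hn J ⟨t.2, ht⟩)
    have : s = t := Subtype.ext e
    rw [← this]
    exact hs
  obtain ⟨l, hl0, hl1, S, L, τ, m', hτ, hm⟩ := exists_irr (k := k) R hG hn hχ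
  have hl : l = lOf k K := by
    funext i
    unfold lOf
    by_cases hi : i ∈ K
    · rw [if_pos hi]
      exact hl1 i (fun h => h.1 hi) (hw i hi)
    · rw [if_neg hi]
      by_cases hi' : ∀ t : T, (t : Y) ∈ X (sr i) ⊔ X (-sr i) → χ t = 1
      · exact hl0 i ⟨hi, hi'⟩
      · exact (hm.cases R (hn i)).resolve_right fun h => hi' h.2
  rw [hl] at hm
  exact ⟨S, L, τ, m', hτ, hm⟩

variable [IsAlgClosed k]

/-- **The number of `p`-regular classes is the number of weights.** -/
theorem card_regular_eq [Finite (WtSet T X k)] (R : RGD cs h p T n X) (hG : GG cs h T X = ⊤)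
    (hn : ∀ i, n i ∈ X (sr i) ⊔ X (-sr i)) (hT : ∀ s ∈ T, ∀ t ∈ T, s * t = t * s) :
    Nat.card {c : ConjClasses Y // ∃ g, ConjClasses.mk g = c ∧ (orderOf g).Coprime p} = Nat.card (WtSet T X k) := by
  classical
  choose S L τ m hτ hm using fun w : WtSet T X k => exists_irr_weight R hG hn w
  have hfd : ∀ w, FiniteDimensional k (S w ⧸ L w) := fun w => inferInstance
  let τ' : ∀ w, Representation k Y (S w ⧸ L w) := τ
  let _ : ∀ w, AddCommGroup (τ' w).asModule := fun w => inferInstance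
  let _ : ∀ w, Module (MonoidAlgebra k Y) (τ' w).asModule := fun w => inferInstance
  have hs : ∀ w, IsSimpleModule (MonoidAlgebra k Y) (τ' w).asModule := fun w =>
    isSimpleModule_of_irr (τ' w) (hτ w)
  refine H135.BrauerCount.card_eq k p Y (WtSet T X k) (fun w => (τ' w).asModule) ?_ ?_
  · rintro w w' ⟨e⟩
    obtain ⟨f, hf⟩ := exists_equivariant (τ w) (τ w') e
    have h1 : Wt cs h n X (τ w') w.1.1 (lOf k w.1.2) (f (m w)) := (hm w).map f.toLinearMap hf
      (fun h0 => (hm w).ne (f.injective (by rw [map_zero]; exact h0)))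
    obtain ⟨h2, h3⟩ := h1.unique R hG (hτ w') (hm w')
    exact Subtype.ext (Prod.ext h2 (lOf_inj h3))
  · intro V _ _ _
    let _ : Module k V := Module.compHom V (algebraMap k (MonoidAlgebra k Y))
    have _ : IsScalarTower k (MonoidAlgebra k Y) V := ⟨fun c b m => by
      change (c • b) • m = (algebraMap k (MonoidAlgebra k Y) c) • b • m
      rw [smul_smul, Algebra.smul_def]⟩
    have _ : FiniteDimensional k V := by
      have h1 : Module.Finite (MonoidAlgebra k Y) V := inferInstance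
      exact Module.Finite.trans (MonoidAlgebra k Y) V
    have hV : Irr (repOf k Y V) := irr_repOf
    obtain ⟨χ, l, x, hx⟩ := exists_wt R hT hV
    let K : Set I := {i | l i = -1}
    have hl : l = lOf k K := by
      funext i
      unfold lOf
      by_cases hi : l i = -1
      · rw [if_pos (show i ∈ K from hi), hi]
      · rw [if_neg (show i ∉ K from hi)]
        exact (hx.cases R (hn i)).resolve_right fun h => hi h.1
    let w : WtSet T X k := ⟨(χ, K), fun i hi => by
      rcases hx.cases R (hn i) with h1 | h1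
      · have h2 : l i = -1 := hi
        rw [h1, eq_comm, neg_eq_zero] at h2
        exact absurd h2 one_ne_zero
      · exact h1.2⟩
    rw [hl] at hx
    obtain ⟨e, he⟩ := hx.exists_equiv R hG hV (hm w) (hτ w)
    exact ⟨w, exists_linearEquiv (τ w) e he⟩

end

section count

variable {I : Type*} {Y : Type v} [Fintype I] [DecidableEq I] [Group Y]
  {p : ℕ} {T : Subgroup Y} {X : (I → ℤ) → Subgroup Y} (k : Type u) [Field k]

theorem card_WtSet [Fact p.Prime] [CharP k p] [IsAlgClosed k] {C : Type*} [CommGroup C] [Finite C]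
    (hC : (Nat.card C).Coprime p) (e : (I → C) ≃* T)
    (he : ∀ i (t : T), (t : Y) ∈ X (sr i) ⊔ X (-sr i) ↔ ∃ c, t = e (Pi.mulSingle i c)) :
    Finite (WtSet T X k) ∧ Nat.card (WtSet T X k) = (Nat.card C + 1) ^ Fintype.card I := by
  classical
  have hne : NeZero ((Monoid.exponent C : ℕ) : k) := by
    refine ⟨fun h0 => ?_⟩
    rw [CharP.cast_eq_zero_iff k p] at h0
    have h1 : p ∣ Nat.card C := h0.trans Group.exponent_dvd_nat_card
    have h2 := Nat.dvd_gcd h1 dvd_rfl
    rw [hC] at h2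
    exact (Fact.out : p.Prime).one_lt.ne' (Nat.dvd_one.1 h2)
  have hcard : Nat.card (C →* kˣ) = Nat.card C := CommGroup.card_monoidHom_of_hasEnoughRootsOfUnity C k
  have hfin : Finite (C →* kˣ) := Nat.finite_of_card_ne_zero (by rw [hcard]; exact Nat.card_pos.ne')
  let r : WtSet T X k → ∀ i : I, C →* kˣ := fun w i =>
    w.1.1.comp (e.toMonoidHom.comp (MonoidHom.mulSingle (fun _ => C) i))
  have hr : ∀ w i c, r w i c = w.1.1 (e (Pi.mulSingle i c)) := fun _ _ _ => rfl
  let Φ : WtSet T X k → I → Option (C →* kˣ) := fun w i => if i ∈ w.1.2 then none else some (r w i)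
  have hΦ0 : ∀ w i, Φ w i = none ↔ i ∈ w.1.2 := by
    intro w i
    change (if i ∈ w.1.2 then none else some (r w i)) = none ↔ _
    by_cases hi : i ∈ w.1.2
    · rw [if_pos hi]; exact ⟨fun _ => hi, fun _ => rfl⟩
    · rw [if_neg hi]; exact ⟨fun h => absurd h (by simp), fun h => absurd h hi⟩
  have hΦ1 : ∀ w i, i ∉ w.1.2 → Φ w i = some (r w i) := fun w i hi => if_neg hi
  have hr1 : ∀ w i, i ∈ w.1.2 → r w i = 1 := by
    intro w i hi
    ext c
    rw [hr, w.2 i hi _ ((he i _).2 ⟨c, rfl⟩)]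
    rfl
  have hbij : Function.Bijective Φ := by
    constructor
    · intro w w' hww
      have hK : w.1.2 = w'.1.2 := by
        ext i
        rw [← hΦ0, ← hΦ0, hww]
      have h1 : ∀ i, r w i = r w' i := by
        intro i
        by_cases hi : i ∈ w.1.2
        · rw [hr1 w i hi, hr1 w' i (hK ▸ hi)]
        · have h2 := congrFun hww i
          change (if i ∈ w.1.2 then none else some (r w i)) = if i ∈ w'.1.2 then none else some (r w' i) at h2
          rw [if_neg hi, if_neg (hK ▸ hi)] at h2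
          exact Option.some_injective _ h2
      have h2 : w.1.1.comp e.toMonoidHom = w'.1.1.comp e.toMonoidHom := by
        refine MonoidHom.functions_ext' _ _ _ fun i => ?_
        exact h1 i
      refine Subtype.ext (Prod.ext ?_ hK)
      ext t
      obtain ⟨x, rfl⟩ := e.surjective t
      exact congrArg (fun z : kˣ => (z : k)) (DFunLike.congr_fun h2 x)
    · intro o
      let χ : T →* kˣ := (∏ j, ((o j).getD 1).comp (Pi.evalMonoidHom (fun _ => C) j)).comp e.symm.toMonoidHom
      have hχ : ∀ i c, χ (e (Pi.mulSingle i c)) = (o i).getD 1 c := by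
        intro i c
        change (∏ j, ((o j).getD 1).comp (Pi.evalMonoidHom (fun _ => C) j)) (e.symm (e (Pi.mulSingle i c))) = _
        rw [MulEquiv.symm_apply_apply, MonoidHom.finsetProd_apply, Finset.prod_eq_single i]
        · change (o i).getD 1 ((Pi.mulSingle i c : I → C) i) = _
          rw [Pi.mulSingle_eq_same]
        · intro j _ hj
          change (o j).getD 1 ((Pi.mulSingle i c : I → C) j) = 1
          rw [Pi.mulSingle_eq_of_ne hj, map_one]
        · intro h0
          exact absurd (Finset.mem_univ _) h0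
      let w : WtSet T X k := ⟨(χ, {i | o i = none}), fun i hi t ht => by
        obtain ⟨c, rfl⟩ := (he i t).1 ht
        change χ (e (Pi.mulSingle i c)) = 1
        rw [hχ, show o i = none from hi]
        rfl⟩
      refine ⟨w, funext fun i => ?_⟩
      by_cases hi : o i = none
      · rw [(hΦ0 w i).2 hi, hi]
      · rw [hΦ1 w i hi]
        obtain ⟨ψ, hψ⟩ := Option.ne_none_iff_exists'.1 hi
        rw [hψ]
        congr 1
        ext c
        rw [hr]
        change ((χ (e (Pi.mulSingle i c)) : kˣ) : k) = _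
        rw [hχ, hψ]
        rfl
  refine ⟨Finite.of_injective Φ hbij.1, ?_⟩
  rw [Nat.card_congr (Equiv.ofBijective Φ hbij), Nat.card_fun, Finite.card_option, hcard,
    Nat.card_eq_fintype_card (α := I)]

end count

section final

variable {I : Type*} {W : Type*} {Y : Type v} [Fintype I] [DecidableEq I] [Group W] [Group Y] [Finite Y]
  {M : CoxeterMatrix I}
  {cs : CoxeterSystem M W} {A : I → I → ℤ} {h : IsCartan M A} {p : ℕ} {T : Subgroup Y} {n : I → Y}
  {X : (I → ℤ) → Subgroup Y}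

/-- **The number of `p`-regular classes** of a group with a root group datum of rank `l` whose torus is the direct product of
the rank one tori `≅ C` is `(|C| + 1) ^ l`. -/
theorem card_regular_of_torus [Finite W] [Fact p.Prime] (R : RGD cs h p T n X) (hG : GG cs h T X = ⊤)
    (hn : ∀ i, n i ∈ X (sr i) ⊔ X (-sr i)) {C : Type*} [CommGroup C] [Finite C]
    (hC : (Nat.card C).Coprime p) (e : (I → C) ≃* T)
    (he : ∀ i (t : T), (t : Y) ∈ X (sr i) ⊔ X (-sr i) ↔ ∃ c, t = e (Pi.mulSingle i c)) :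
    Nat.card {c : ConjClasses Y // ∃ g, ConjClasses.mk g = c ∧ (orderOf g).Coprime p} =
      (Nat.card C + 1) ^ Fintype.card I := by
  have hT : ∀ s ∈ T, ∀ t ∈ T, s * t = t * s := by
    intro s hs t ht
    obtain ⟨x, hx⟩ := e.surjective ⟨s, hs⟩
    obtain ⟨y, hy⟩ := e.surjective ⟨t, ht⟩
    have h1 : (e x * e y : T) = e y * e x := by rw [← map_mul, mul_comm, map_mul]
    rw [hx, hy] at h1
    exact congrArg Subtype.val h1
  obtain ⟨h1, h2⟩ := card_WtSet (X := X) (AlgebraicClosure (ZMod p)) hC e he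
  rw [card_regular_eq (k := AlgebraicClosure (ZMod p)) R hG hn hT, h2]

end final

end Cfsg.Agent.H945
end

-- part: H945/Chev
section
/-!
# The number of `p`-regular classes of the Chevalley groups with trivial simply connected centre, helper945

`card_regular_chev` : it is `q ^ rank` for G₂, F₄, E₈, for E₆ if `q ≢ 1 mod 3` and for B₂, D₄, E₇ if `q` is even
(`H135.TorusTab.Full D q`).
-/

set_option autoImplicit false
set_option linter.unusedSectionVars false

namespace Cfsg.Agent.H945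

open CoxeterSystem Cfsg.Agent.ChevalleyStructure.CoxeterGeom Cfsg.Agent.Tits.Roots Cfsg.Agent.Tits.Core
  Cfsg.Agent.Nodes.Reps Cfsg.Agent.Nodes.BNOf
open Cfsg.Lie Cfsg.Agent.ChevalleyStructure.Elts Cfsg.Agent.Nodes.RGDChev
open Cfsg.Agent.H135.TorusTab Cfsg.Agent.ChevalleyStructure.TorusCount Cfsg.Agent.ChevalleyStructure.TorusRange

theorem exists_isType {D : ChevalleyDatum} (hD : D ∈ Types) : ∃ M : CoxeterMatrix (Fin D.rank), IsType D D.rank M := by
  have h1 : ∃ (l : ℕ) (M : CoxeterMatrix (Fin l)), IsType D l M := by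
    simp only [Types, List.mem_cons, List.not_mem_nil, or_false] at hD
    rcases hD with rfl | rfl | rfl | rfl | rfl | rfl | rfl
    · exact ⟨2, CoxeterMatrix.G₂, by simp [IsType, typeList]⟩
    · exact ⟨2, CoxeterMatrix.B 2, by simp [IsType, typeList]⟩
    · exact ⟨4, _root_.Cfsg.Lie.coxeterD4, by simp [IsType, typeList]⟩
    · exact ⟨4, CoxeterMatrix.F₄, by simp [IsType, typeList]⟩
    · exact ⟨6, CoxeterMatrix.E₆, by simp [IsType, typeList]⟩
    · exact ⟨7, CoxeterMatrix.E₇, by simp [IsType, typeList]⟩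
    · exact ⟨8, CoxeterMatrix.E₈, by simp [IsType, typeList]⟩
  obtain ⟨l, M, hp⟩ := h1
  have h2 := hp.rank_eq
  subst h2
  exact ⟨M, hp⟩

/-- **The number of `p`-regular classes.** -/
theorem card_regular_chev {F : Type*} [Field F] [Fintype F] {q : ℕ} (hq : Fintype.card F = q) (p : ℕ) [Fact p.Prime]
    [CharP F p] {D : ChevalleyDatum} (hD : Full D q) :
    Nat.card {c : ConjClasses ↥(D.group F) // ∃ g : ↥(D.group F), ConjClasses.mk g = c ∧ (orderOf g).Coprime p} =
      q ^ D.rank := by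
  obtain ⟨M, hp⟩ := exists_isType hD.mem
  let cs : CoxeterSystem M M.Group := M.toCoxeterSystem
  have hW : Finite M.Group := finite_W hp cs
  have R := rgd (K := F) hp cs p
  set T : Subgroup ↥(D.group F) := (D.diagonalSubgroup F).subgroupOf (D.group F) with hT
  set n : Fin D.rank → ↥(D.group F) := fun i => (⟨nn hp F i, nn_mem_group hp i⟩ : ↥(D.group F)) with hn
  set X : (Fin D.rank → ℤ) → Subgroup ↥(D.group F) := fun x => (XV D D.rank F x).subgroupOf (D.group F) with hX
  have hG : Cfsg.Agent.Nodes.Bruhat.GG cs hp.isCartan T X = ⊤ := by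
    unfold Cfsg.Agent.Nodes.Bruhat.GG
    have h1 : RGD.Sup X {x | IsRoot cs hp.isCartan x} = ⊤ := G1_eq_top hp cs
    rw [h1, sup_top_eq]
  -- the rank one groups
  have hLL : ∀ i : Fin D.rank, ∀ g : ↥(D.group F), g ∈ X (sr i) ⊔ X (-sr i) ↔
      (g : GL D.Idx F) ∈ D.rootSubgroup F (D.simple i) ⊔ D.rootSubgroup F (D.neg (D.simple i)) := by
    intro i g
    change g ∈ (XV D D.rank F (sr i)).subgroupOf (D.group F) ⊔ (XV D D.rank F (-sr i)).subgroupOf (D.group F) ↔ _
    rw [← Subgroup.subgroupOf_sup (XV_le_group hp _) (XV_le_group hp _), Subgroup.mem_subgroupOf, XV_sr hp i,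
      XV_neg_sr hp i]
  have hnL : ∀ i, n i ∈ X (sr i) ⊔ X (-sr i) := by
    intro i
    rw [hLL]
    change nG hp.inList (D.simple i) 1 ∈ _
    rw [nG_def]
    exact mul_mem (Subgroup.mem_sup_left (xG_mem_rootSubgroup hp.inList _ _))
      (mul_mem (Subgroup.mem_sup_right (xG_mem_rootSubgroup hp.inList _ _))
        (Subgroup.mem_sup_left (xG_mem_rootSubgroup hp.inList _ _)))
  have hle : D.diagonalSubgroup F ≤ D.group F := diagonal_le_group hp.inList F
  have hmem : ∀ u, torusHom D F u ∈ D.diagonalSubgroup F := by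
    intro u
    rw [range_eq hD.mem]
    exact ⟨u, rfl⟩
  -- the torus
  let f : (Fin D.rank → Fˣ) →* T :=
    { toFun := fun u => ⟨⟨torusHom D F u, hle (hmem u)⟩, hmem u⟩
      map_one' := Subtype.ext (Subtype.ext (map_one _))
      map_mul' := fun u v => Subtype.ext (Subtype.ext (map_mul _ _ _)) }
  have hf : ∀ u, (((f u : T) : ↥(D.group F)) : GL D.Idx F) = torusHom D F u := fun _ => rfl
  have hinj := torusHom_injective (F := F) hq hD
  have hbij : Function.Bijective f := by
    constructor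
    · intro u v huv
      apply hinj
      rw [← hf, ← hf, huv]
    · rintro ⟨⟨t, ht⟩, ht'⟩
      have h1 : t ∈ D.diagonalSubgroup F := ht'
      rw [range_eq hD.mem] at h1
      obtain ⟨u, rfl⟩ := h1
      exact ⟨u, rfl⟩
  let e : (Fin D.rank → Fˣ) ≃* T := MulEquiv.ofBijective f hbij
  have hC : (Nat.card Fˣ).Coprime p := by
    rw [Nat.card_units, Nat.card_eq_fintype_card]
    have hpp : p.Prime := Fact.out
    obtain ⟨m, hm⟩ := FiniteField.card F p
    rw [Nat.coprime_comm, hpp.coprime_iff_not_dvd, hm.2]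
    intro h1
    have h2 : p ∣ p ^ (m : ℕ) := dvd_pow_self p m.2.ne'
    have h3 := (Nat.dvd_sub_iff_right (Nat.one_le_pow _ _ hpp.pos) h2).1 h1
    exact hpp.one_lt.ne' (Nat.dvd_one.1 h3)
  have he : ∀ i (t : T), (t : ↥(D.group F)) ∈ X (sr i) ⊔ X (-sr i) ↔ ∃ c, t = e (Pi.mulSingle i c) := by
    intro i t
    rw [hLL]
    constructor
    · intro ht
      have h1 : ((t : ↥(D.group F)) : GL D.Idx F) ∈ D.diagonalSubgroup F ⊓
          (D.rootSubgroup F (D.simple i) ⊔ D.rootSubgroup F (D.neg (D.simple i))) := ⟨t.2, ht⟩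
      rw [inf_eq hD.mem i] at h1
      obtain ⟨c, hc⟩ := h1
      exact ⟨c, Subtype.ext (Subtype.ext hc.symm)⟩
    · rintro ⟨c, rfl⟩
      exact hh_mem hD.mem i c
  have hmain := card_regular_of_torus R hG hnL hC e he
  rw [hmain, Nat.card_units, Nat.card_eq_fintype_card, hq, Fintype.card_fin]
  have hq1 : 1 ≤ q := by rw [← hq]; exact Fintype.card_pos
  rw [Nat.sub_add_cancel hq1]

end Cfsg.Agent.H945
end

private theorem dce_11bf8aa94744 : _root_.True := by
  try have : _root_.True := by simp only [_root_.Cfsg.Agent.H135.BrauerCount.tf.congr_simp]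
  try have : _root_.True := by simp only [_root_.Cfsg.Agent.H135.BrauerCount.rmul.congr_simp]
  try have : _root_.True := by simp only [_root_.Cfsg.Agent.H135.BrauerCount.el.eq_1]
  try have : _root_.True := by simp only [_root_.Cfsg.Agent.Blocks.SimpleTrace.act.congr_simp]
  exact _root_.True.intro
end

-- part: H934/PQR/TorGen
section
prune_inst 0x210008445440000000000594b1202044360000b010000800400005440008a200604420c03400200012188815200d0000024c002000600000040008000118008010000202a108a000000016000080000000000000000000000000000000000004000000000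
set_option linter.all false
open scoped Cfsg.Agent.FastGrp

/-!
# The torus of a root group datum with nodes `SL₂(F)` (helper934)

`Φ : SL₂(F) → Y` parametrises `X (sr i)`, `Φ w = n i`, `Φ (diag) ⊆ T`. Then `T ∩ ⟨X (sr i), X (-sr i)⟩ = Φ (diag) =: AA Φ`
is cyclic, inverted by `n i`, and contains `t⁻¹ n i t (n i)⁻¹` for `t ∈ T`; if the root groups generate then `T` is the
join of the `AA (Φ i)`.
-/

set_option autoImplicit false
set_option linter.unusedSectionVars false

namespace Cfsg.Agent.H934.PQR.TorGen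

open CoxeterSystem Cfsg.Agent.ChevalleyStructure.CoxeterGeom Cfsg.Agent.Tits.Roots Cfsg.Agent.Tits.Core
  Cfsg.Agent.Nodes.Reps Cfsg.Agent.Nodes.BNOf Cfsg.Agent.Nodes.FreeTorus
open Cfsg.Agent.Nodes.RGDFoldSL (wS hS coe_wS coe_hS lo_eq)
open Cfsg.Agent.ChevalleyStructure.SL2Hom (up lo)

section SL

variable {F : Type*} [Field F]

/-- the diagonal torus of `SL₂(F)` -/
def tau : Fˣ →* Matrix.SpecialLinearGroup (Fin 2) F where
  toFun c := ⟨!![(c : F), 0; 0, ((c⁻¹ : Fˣ) : F)], by simp⟩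
  map_one' := by
    ext i j
    (revert i j; simp only [_root_.Fin.forall_fin_succ, _root_.Units.val_one, _root_.inv_one, _root_.Matrix.of_apply, _root_.Matrix.cons_val', _root_.Matrix.cons_val_fin_one, _root_.Matrix.SpecialLinearGroup.coe_one, Fin.isValue, _root_.Matrix.cons_val_zero, _root_.Matrix.cons_val_succ, _root_.IsEmpty.forall_iff, _root_.and_true, _root_.Matrix.one_apply_eq, Nat.reduceAdd, _root_.Fin.succ_zero_eq_one, _root_.ne_eq, _root_.zero_ne_one, _root_.not_false_eq_true, _root_.Matrix.one_apply_ne, _root_.and_self, _root_.Fin.succ_ne_zero, _root_.true_and])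
  map_mul' a b := by
    refine Subtype.ext ?_
    refine Eq.trans ?_ (Matrix.SpecialLinearGroup.coe_mul _ _).symm
    show !![((a * b : Fˣ) : F), 0; 0, (((a * b)⁻¹ : Fˣ) : F)] = !![(a : F), 0; 0, ((a⁻¹ : Fˣ) : F)] *
      !![(b : F), 0; 0, ((b⁻¹ : Fˣ) : F)]
    ext i j
    (revert i j; simp only [Matrix.mul_apply, Fin.sum_univ_two, mul_comm, _root_.Fin.forall_fin_succ, _root_.Units.val_mul, _root_.mul_inv_rev, _root_.Units.val_inv_eq_inv_val, _root_.Matrix.of_apply, _root_.Matrix.cons_val', _root_.Matrix.cons_val_fin_one, Fin.isValue, _root_.Matrix.cons_val_zero, _root_.Matrix.cons_val_one, _root_.MulZeroClass.zero_mul, _root_.add_zero, _root_.Matrix.cons_val_succ, _root_.zero_add, _root_.forall_const, _root_.MulZeroClass.mul_zero, _root_.and_self, _root_.implies_true])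

theorem coe_tau (c : Fˣ) : ((tau c : Matrix.SpecialLinearGroup (Fin 2) F) : Matrix (Fin 2) (Fin 2) F) =
    !![(c : F), 0; 0, ((c⁻¹ : Fˣ) : F)] := rfl

theorem tau_eq (c : Fˣ) : tau c = hS (c : F) := by
  apply Subtype.ext
  rw [coe_hS c.ne_zero]
  change ((tau c : Matrix.SpecialLinearGroup (Fin 2) F) : Matrix (Fin 2) (Fin 2) F) = _
  rw [coe_tau, Units.val_inv_eq_inv_val]

theorem wS_tau (c : Fˣ) : wS 1 * tau c * (wS 1)⁻¹ = (tau c)⁻¹ := by
  rw [mul_inv_eq_iff_eq_mul, ← map_inv]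
  apply Subtype.ext
  rw [Matrix.SpecialLinearGroup.coe_mul, Matrix.SpecialLinearGroup.coe_mul, coe_wS one_ne_zero, coe_tau, coe_tau]
  ext i j
  (revert i j; simp only [Matrix.mul_apply, Fin.sum_univ_two, _root_.Fin.forall_fin_succ, _root_.inv_one, _root_.Units.val_inv_eq_inv_val, _root_.Matrix.of_apply, _root_.Matrix.cons_val', _root_.Matrix.cons_val_fin_one, Fin.isValue, _root_.Matrix.cons_val_zero, _root_.Matrix.cons_val_one, _root_.inv_inv, _root_.MulZeroClass.mul_zero, _root_.add_zero, _root_.mul_neg, _root_.mul_one, _root_.zero_add, _root_.Matrix.cons_val_succ, _root_.forall_const, _root_.MulZeroClass.zero_mul, _root_.neg_zero, _root_.one_mul, _root_.and_self, _root_.neg_mul, _root_.implies_true])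

/-- **Bruhat decomposition** -/
theorem bruhat (g : Matrix.SpecialLinearGroup (Fin 2) F) :
    (∃ (x : F) (c : Fˣ), g = up x * tau c) ∨ ∃ (x : F) (c : Fˣ) (y : F), g = up x * tau c * wS 1 * up y := by
  have hdet : g.1 0 0 * g.1 1 1 - g.1 0 1 * g.1 1 0 = 1 := by
    rw [← Matrix.det_fin_two]; exact g.2
  by_cases hc : g.1 1 0 = 0
  · left
    rw [hc, mul_zero, sub_zero] at hdet
    have h0 : g.1 0 0 ≠ 0 := left_ne_zero_of_mul_eq_one hdet
    have h1 : g.1 1 1 = (g.1 0 0)⁻¹ := eq_inv_of_mul_eq_one_right hdet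
    refine ⟨g.1 0 1 * g.1 0 0, Units.mk0 _ h0, ?_⟩
    apply Subtype.ext
    rw [Matrix.SpecialLinearGroup.coe_mul, coe_tau]
    show g.1 = (!![1, g.1 0 1 * g.1 0 0; 0, 1] : Matrix (Fin 2) (Fin 2) F) * _
    ext i j
    fin_cases i <;> fin_cases j
    · simp [Matrix.mul_apply, Fin.sum_univ_two]
    · simp [Matrix.mul_apply, Fin.sum_univ_two, h0]
    · simp [Matrix.mul_apply, Fin.sum_univ_two, hc]
    · simp [Matrix.mul_apply, Fin.sum_univ_two, h1]
  · right
    refine ⟨g.1 0 0 / g.1 1 0, Units.mk0 (-(g.1 1 0)⁻¹) (neg_ne_zero.2 (inv_ne_zero hc)), g.1 1 1 / g.1 1 0, ?_⟩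
    apply Subtype.ext
    rw [Matrix.SpecialLinearGroup.coe_mul, Matrix.SpecialLinearGroup.coe_mul, Matrix.SpecialLinearGroup.coe_mul, coe_tau,
      coe_wS one_ne_zero]
    show g.1 = (!![1, g.1 0 0 / g.1 1 0; 0, 1] : Matrix (Fin 2) (Fin 2) F) * _ * _ *
      (!![1, g.1 1 1 / g.1 1 0; 0, 1] : Matrix (Fin 2) (Fin 2) F)
    have h01 : g.1 0 1 = (g.1 0 0 * g.1 1 1 - 1) / g.1 1 0 := by
      rw [eq_div_iff hc]; linear_combination -hdet
    ext i j
    fin_cases i <;> fin_cases j
    · simp [Matrix.mul_apply, Fin.sum_univ_two, hc]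
    · simp only [Matrix.mul_apply, Fin.sum_univ_two, _root_.Fin.zero_eta, _root_.Fin.isValue, _root_.Fin.mk_one, _root_.Units.val_mk0, _root_.Units.val_inv_eq_inv_val, _root_.inv_neg, _root_.inv_inv, _root_.Matrix.cons_mul, _root_.Nat.succ_eq_add_one, _root_.Nat.reduceAdd, _root_.Matrix.vecMul_cons, _root_.Matrix.head_cons, _root_.one_smul, _root_.Matrix.tail_cons, _root_.Matrix.smul_cons, _root_.smul_eq_mul, _root_.MulZeroClass.mul_zero, _root_.mul_neg, _root_.Matrix.smul_empty, _root_.Matrix.empty_vecMul, _root_.add_zero, _root_.Matrix.add_cons, _root_.zero_add, _root_.Matrix.empty_add_empty, _root_.zero_smul, _root_.Matrix.empty_mul, _root_.Equiv.symm_apply_apply, _root_.inv_one, _root_.neg_smul, _root_.mul_one, _root_.Matrix.neg_cons, _root_.neg_zero, _root_.Matrix.neg_empty, _root_.neg_neg, _root_.Matrix.mul_apply, _root_.Matrix.of_apply, _root_.Matrix.cons_val', _root_.Matrix.cons_val_fin_one, _root_.Matrix.cons_val_zero, _root_.Matrix.cons_val_one, _root_.Fin.sum_univ_two]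
      rw [h01]
      field_simp
      ring
    · simp only [Matrix.mul_apply, Fin.sum_univ_two, _root_.Fin.mk_one, _root_.Fin.isValue, _root_.Fin.zero_eta, _root_.Units.val_mk0, _root_.Units.val_inv_eq_inv_val, _root_.inv_neg, _root_.inv_inv, _root_.Matrix.cons_mul, _root_.Nat.succ_eq_add_one, _root_.Nat.reduceAdd, _root_.Matrix.vecMul_cons, _root_.Matrix.head_cons, _root_.one_smul, _root_.Matrix.tail_cons, _root_.Matrix.smul_cons, _root_.smul_eq_mul, _root_.MulZeroClass.mul_zero, _root_.mul_neg, _root_.Matrix.smul_empty, _root_.Matrix.empty_vecMul, _root_.add_zero, _root_.Matrix.add_cons, _root_.zero_add, _root_.Matrix.empty_add_empty, _root_.zero_smul, _root_.Matrix.empty_mul, _root_.Equiv.symm_apply_apply, _root_.inv_one, _root_.neg_smul, _root_.mul_one, _root_.Matrix.neg_cons, _root_.neg_zero, _root_.Matrix.neg_empty, _root_.neg_neg, _root_.Matrix.mul_apply, _root_.Matrix.of_apply, _root_.Matrix.cons_val', _root_.Matrix.cons_val_fin_one, _root_.Matrix.cons_val_one,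 _root_.Matrix.cons_val_zero, _root_.Fin.sum_univ_two]
    · simp [Matrix.mul_apply, Fin.sum_univ_two, hc]
      field_simp

end SL

section

variable {I W Y : Type*} [Fintype I] [DecidableEq I] [Group W] [Group Y] {M : CoxeterMatrix I}
  {cs : CoxeterSystem M W} {A : I → I → ℤ} {h : IsCartan M A} {p : ℕ} {T : Subgroup Y} {n : I → Y}
  {X : (I → ℤ) → Subgroup Y}

/-- the node `i` is parametrised by `SL₂(F)` -/
structure Node (T : Subgroup Y) (n : I → Y) (X : (I → ℤ) → Subgroup Y) (i : I) {F : Type*} [Field F]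
    (Φ : Matrix.SpecialLinearGroup (Fin 2) F →* Y) : Prop where
  mem : ∀ u, u ∈ X (sr i) ↔ ∃ a, u = Φ (up a)
  ns : Φ (wS 1) = n i
  tor : ∀ c : Fˣ, Φ (tau c) ∈ T

/-- the rank one torus -/
def AA {F : Type*} [Field F] (Φ : Matrix.SpecialLinearGroup (Fin 2) F →* Y) : Subgroup Y := (Φ.comp tau).range

theorem cyclic_AA {F : Type*} [Field F] [Finite F] (Φ : Matrix.SpecialLinearGroup (Fin 2) F →* Y) :
    IsCyclic ↥(AA Φ) := by
  have : IsCyclic Fˣ := inferInstance
  exact isCyclic_of_surjective (Φ.comp tau).rangeRestrict (Φ.comp tau).rangeRestrict_surjective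

variable {F : Type*} [Field F] {i : I} {Φ : Matrix.SpecialLinearGroup (Fin 2) F →* Y}

theorem Node.AA_le (N : Node T n X i Φ) : AA Φ ≤ T := by
  rintro _ ⟨c, rfl⟩
  exact N.tor c

theorem Node.inv (N : Node T n X i Φ) {s : Y} (hs : s ∈ AA Φ) : n i * s * (n i)⁻¹ = s⁻¹ := by
  obtain ⟨c, rfl⟩ := hs
  rw [← N.ns]
  show Φ (wS 1) * Φ (tau c) * (Φ (wS 1))⁻¹ = (Φ (tau c))⁻¹
  rw [← map_mul, ← map_inv, ← map_mul, wS_tau, map_inv]

theorem Node.neg (R : RGD cs h p T n X) (N : Node T n X i Φ) (a : F) : Φ (lo a) ∈ X (-sr i) := by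
  have h1 : cj (n i) (X (sr i)) = X (-sr i) := by
    rw [R.conj i _ (isRoot_sr cs h i), rep_simple_sr]
  rw [← h1, lo_eq, map_mul, map_mul, map_inv, N.ns]
  exact ⟨Φ (up (-a)), (N.mem _).2 ⟨_, rfl⟩, rfl⟩

theorem Node.LL_le (R : RGD cs h p T n X) (N : Node T n X i Φ) : LL X (sr i) ≤ Φ.range := by
  have h0 : X (sr i) ≤ Φ.range := by
    intro u hu
    obtain ⟨a, rfl⟩ := (N.mem u).1 hu
    exact ⟨_, rfl⟩
  have h1 : cj (n i) (X (sr i)) = X (-sr i) := by
    rw [R.conj i _ (isRoot_sr cs h i), rep_simple_sr]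
  refine sup_le h0 ?_
  rw [← h1]
  rintro _ ⟨u, hu, rfl⟩
  show n i * u * (n i)⁻¹ ∈ _
  have h2 : n i ∈ Φ.range := ⟨_, N.ns⟩
  exact mul_mem (mul_mem h2 (h0 hu)) (inv_mem h2)

theorem Node.n_mem (R : RGD cs h p T n X) (N : Node T n X i Φ) : n i ∈ LL X (sr i) := by
  rw [← N.ns]
  have h1 : ∀ a : F, Φ (up a) ∈ LL X (sr i) := fun a => Subgroup.mem_sup_left ((N.mem _).2 ⟨a, rfl⟩)
  have h2 : ∀ a : F, Φ (lo a) ∈ LL X (sr i) := fun a => Subgroup.mem_sup_right (N.neg R a)
  show Φ (up 1 * (lo (-1⁻¹) * up 1)) ∈ _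
  rw [map_mul, map_mul]
  exact mul_mem (h1 _) (mul_mem (h2 _) (h1 _))

/-- `T ∩ X (sr i) = 1` -/
theorem T_inf_X (R : RGD cs h p T n X) [hp : Fact p.Prime] (i : I) {t : Y} (ht : t ∈ T) (hx : t ∈ X (sr i)) : t = 1 := by
  obtain ⟨k, hk⟩ := R.pgrp i ⟨t, hx⟩
  have h1 : t ^ p ^ k = 1 := congrArg Subtype.val hk
  have h2 : orderOf t ∣ p ^ k := orderOf_dvd_of_pow_eq_one h1
  have h3 : orderOf t ∣ Nat.card T := by
    rw [← Subgroup.orderOf_mk t ht]
    exact orderOf_dvd_natCard _
  have h4 : Nat.Coprime (Nat.card T) (p ^ k) := R.tcop.pow_right k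
  have h5 : orderOf t ∣ Nat.gcd (Nat.card T) (p ^ k) := Nat.dvd_gcd h3 h2
  rw [h4] at h5
  exact orderOf_eq_one_iff.1 (Nat.dvd_one.1 h5)

/-- **`T ∩ ⟨X (sr i), X (-sr i)⟩`** -/
theorem Node.inf_le (R : RGD cs h p T n X) [hp : Fact p.Prime] (N : Node T n X i Φ) : T ⊓ LL X (sr i) ≤ AA Φ := by
  rintro t ⟨ht, hl⟩
  obtain ⟨g, rfl⟩ := N.LL_le R hl
  rcases bruhat g with ⟨x, c, hg⟩ | ⟨x, c, y, hg⟩
  · have h1 : Φ (up x) ∈ T := by
      have h2 : Φ (up x) = Φ g * (Φ (tau c))⁻¹ := by
        rw [hg, map_mul]; group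
      rw [h2]
      exact mul_mem ht (inv_mem (N.tor c))
    have h3 := T_inf_X R i h1 ((N.mem _).2 ⟨x, rfl⟩)
    refine ⟨c, ?_⟩
    show Φ (tau c) = Φ g
    rw [hg, map_mul, h3, one_mul]
  · exfalso
    -- `n i` normalises `X (sr i)`
    have hT : ∀ s ∈ T, s ∈ Subgroup.normalizer (X (sr i) : Set Y) := fun s hs =>
      mem_normalizer_iff_cj.2 (R.tor _ (isRoot_sr cs h i) s hs)
    have hXn : ∀ s ∈ X (sr i), s ∈ Subgroup.normalizer (X (sr i) : Set Y) := fun s hs => Subgroup.le_normalizer hs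
    have h2 : n i = (Φ (tau c))⁻¹ * (Φ (up x))⁻¹ * Φ g * (Φ (up y))⁻¹ := by
      rw [hg, map_mul, map_mul, map_mul, N.ns]; group
    have h3 : n i ∈ Subgroup.normalizer (X (sr i) : Set Y) := by
      rw [h2]
      exact mul_mem (mul_mem (mul_mem (inv_mem (hT _ (N.tor c))) (inv_mem (hXn _ ((N.mem _).2 ⟨x, rfl⟩)))) (hT _ ht))
        (inv_mem (hXn _ ((N.mem _).2 ⟨y, rfl⟩)))
    have h4 : cj (n i) (X (sr i)) = X (sr i) := mem_normalizer_iff_cj.1 h3
    have h5 : cj (n i) (X (sr i)) = X (-sr i) := by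
      rw [R.conj i _ (isRoot_sr cs h i), rep_simple_sr]
    apply R.notp i
    rw [← h5, h4, sup_idem]
    exact R.pgrp i

theorem Node.comm_mem (R : RGD cs h p T n X) [hp : Fact p.Prime] (N : Node T n X i Φ) {t : Y} (ht : t ∈ T) :
    t⁻¹ * (n i * t * (n i)⁻¹) ∈ AA Φ := by
  refine N.inf_le R ⟨?_, ?_⟩
  · exact T.mul_mem (T.inv_mem ht) ((Subgroup.mem_normalizer_iff.1 (R.nsys.norm i) t).1 ht)
  · have h1 := Cfsg.Agent.H945.T_norm_LL R i (inv_mem ht)
    have h2 := (Subgroup.mem_normalizer_iff.1 h1 (n i)).1 (N.n_mem R)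
    have h3 : t⁻¹ * (n i * t * (n i)⁻¹) = t⁻¹ * n i * (t⁻¹)⁻¹ * (n i)⁻¹ := by group
    rw [h3]
    exact (LL X (sr i)).mul_mem h2 ((LL X (sr i)).inv_mem (N.n_mem R))

end

section all

variable {I W Y : Type*} [Fintype I] [DecidableEq I] [Group W] [Group Y] {M : CoxeterMatrix I}
  {cs : CoxeterSystem M W} {A : I → I → ℤ} {h : IsCartan M A} {p : ℕ} {T : Subgroup Y} {n : I → Y}
  {X : (I → ℤ) → Subgroup Y}

/-- **The torus is the join of the rank one tori.** -/
theorem T_eq_iSup [Finite Y] [Finite W] (R : RGD cs h p T n X) [hp : Fact p.Prime]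
    (hG : RGD.Sup X {r | IsRoot cs h r} = ⊤) {F : I → Type*} [∀ i, Field (F i)]
    (Φ : ∀ i, Matrix.SpecialLinearGroup (Fin 2) (F i) →* Y) (N : ∀ i, Node T n X i (Φ i)) :
    T = ⨆ i, AA (Φ i) := by
  apply le_antisymm
  · have h1 := Cfsg.Agent.H945.T_inf_Sup R fun i => (N i).n_mem R
    rw [hG, inf_top_eq] at h1
    exact h1.trans (iSup_mono fun i => (N i).inf_le R)
  · exact iSup_le fun i => (N i).AA_le

end all

end Cfsg.Agent.H934.PQR.TorGen
end
end
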